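/-!
Words for the normalisers of the Sylow subgroups of orders seven and twenty-five.
-/

set_option autoImplicit false

namespace CfsgLib.SuzSyl

/-- a word inverting the element of order seven -/
def invSeven : List Nat := [0, 2, 3, 1, 0, 1, 2, 1, 3, 2, 0, 1, 0, 1, 2, 3, 2, 1]

/-- the first element of order five -/
def vFive : List Nat := [0, 1, 0, 1, 5, 0, 1, 0, 1]

/-- the second element of order five -/
def wFive : List Nat := [3, 0, 2, 1, 0, 1, 0, 3, 5, 2, 3, 4, 5, 1, 2, 3, 2, 0, 1, 5, 4, 3, 2, 5, 0, 1, 0, 1, 2, 3, 2, 4]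

/-- an element of order four -/
def xFour : List Nat := [1, 2, 3, 1, 2, 0, 1, 5, 6, 1, 2, 3, 2, 0, 1, 6, 5, 0, 1, 5, 3, 2, 3, 1, 2, 0, 1, 2, 0, 4]

/-- an element of order three -/
def bThree : List Nat := [5, 2, 0, 1, 2, 0, 1, 2, 3, 4, 2, 3, 2, 0, 1, 2, 1, 3, 4, 1, 0, 1, 2, 3, 2, 1, 5, 4, 3, 2, 1, 4, 2, 3, 2, 6, 1, 0, 2, 1, 3, 2, 0, 1, 5, 2, 3, 2, 1, 6, 5, 3, 4]

/-- an involution -/
def cTwo : List Nat := [5, 1, 5]

/-- exponents of the elements with two fixed cosets -/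
def twoFix : List (Nat × Nat) := [(1, 0), (1, 2), (1, 3), (2, 0), (2, 1), (2, 4), (3, 0), (3, 1), (3, 4), (4, 0), (4, 2), (4, 3)]

/-- the six subgroups of order five with conjugators -/
def lineConj : List ((Nat × Nat) × List Nat × Nat × Nat) := [
  ((1, 0), [], 0, 1),
  ((0, 1), [], 1, 1),
  ((1, 1), [5, 2, 3, 2, 4, 3, 2, 3, 1, 2, 0, 1, 5, 2, 3, 4, 2, 3, 2, 4], 1, 3),
  ((2, 1), [5, 2, 3, 2, 4, 3, 2, 3, 1, 2, 0, 1, 5, 2, 3, 4, 2, 3, 2, 0, 4], 0, 4),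
  ((3, 1), [5, 2, 3, 2, 4, 3, 2, 3, 1, 2, 0, 1, 5, 2, 3, 4, 2, 3, 2, 4], 0, 4),
  ((4, 1), [5, 2, 3, 2, 4, 3, 2, 3, 1, 2, 0, 1, 5, 2, 3, 4, 2, 3, 2, 0, 4], 1, 3)]

/-- fixed cosets of the second element -/
def fixW : List Nat := [0, 1, 2, 3, 5, 6, 472, 614, 688, 689, 901, 995]

/-- an orbit of the first element inside them -/
def orbOne : List Nat := [1, 3, 6, 5, 2]

end CfsgLib.SuzSyl
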