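import Cfsg.Agent.Lib.SuzPres.OutFacts
import Cfsg.Agent.Lib.SuzSyl.Data

/-!
Kernel checks for the normalisers of the Sylow subgroups of orders seven and twenty-five.
-/

set_option autoImplicit false
set_option maxRecDepth 100000
set_option maxHeartbeats 2000000
set_option Elab.async false

namespace CfsgLib.SuzSyl

open CfsgLib.CosetEnum CfsgLib.SuzPres

/-- a repeated word -/
def repW (n : ℕ) (u : List ℕ) : List ℕ := (List.replicate n u).flatten

/-- the twelve words of the centraliser of the element of order seven -/
def sevenWords : List (List ℕ) :=
  [[], hWord1, hWord2, hWord3].flatMap fun h => [[], tWord, tWord ++ tWord].map fun t => h ++ t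

/-- the fixed cosets of the element of order seven -/
def fix4 : List ℕ := [0, qOne, qTwo, qThree]

/-- all pairs of different positions differ -/
noncomputable def apart : List (List ℕ) → Bool
  | [] => true
  | l :: ls => ls.all (fun l' => !(l == l')) && apart ls

/-- images of listed points under a word -/
noncomputable def imgs (pts : List ℕ) (u : List ℕ) : List ℕ := pts.map fun x => certA.run x (certA.revInv u)

/-- the element with the given exponents -/
def eWord (p : ℕ × ℕ) : List ℕ := repW p.1 vFive ++ repW p.2 wFive

/-- all exponents -/
def exps : List (ℕ × ℕ) := (List.range 5).flatMap fun i => (List.range 5).map fun j => (i, j)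

/-- the six elements of the symmetric group as words -/
def symWord (i j : ℕ) : List ℕ := repW i bThree ++ repW j cTwo

/-- the twenty-five images of a point -/
noncomputable def orb25 (x : ℕ) : List ℕ := exps.map fun p => certA.run x (certA.revInv (eWord p))

/-- the images of a point under the first element -/
noncomputable def orb5 (x : ℕ) : List ℕ := (List.range 5).map fun i => certA.run x (certA.revInv (repW i vFive))

/-- the known points of the first stage -/
noncomputable def stage1 : List ℕ := [0, 688] ++ orbOne

/-- the known points of the second stage -/
noncomputable def stage2 : List ℕ := stage1 ++ orb25 169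

/-- the known points of the third stage -/
noncomputable def stage3 : List ℕ := stage2 ++ orb5 11

/-- sample fixed points of the elements with twelve fixed points -/
def fixOther : List ℕ := fixW ++ [488, 691, 504, 708]

/-- fixed points as pairs -/
def diagP (l : List ℕ) : List (ℕ × ℕ) := l.map fun x => (x, x)

/-- possible images of the point of the second stage -/
noncomputable def stage1OK (x : ℕ) : Bool :=
  pick (band (certA.pairsOK twoMask (diagP stage1) 169 x)
    (band (certA.shiftOK twoMask vFive 5 169 x) (certA.shiftOK twoMask wFive 5 169 x)))
    ((List.range 5).any fun j => Nat.beq (certA.run 169 (certA.revInv (repW j wFive))) x) true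

theorem seven_comm : (sevenWords.all fun u => (u.all fun g => Nat.blt g 7) &&
    sameA (u ++ vWordA) (vWordA ++ u)) = true := by decide +kernel

theorem seven_apart : apart (sevenWords.map (imgs fix4)) = true := by decide +kernel

theorem seven_inv : ((invSeven.all fun g => Nat.blt g 7) &&
    sameA (vWordA ++ (invSeven ++ vWordA)) invSeven) = true := by decide +kernel

theorem five_lt : ([vFive, wFive, xFour, bThree, cTwo] ++ lineConj.map fun l => l.2.1).all
    (fun w => w.all fun g => Nat.blt g 7) = true := by decide +kernel

theorem five_pair : (sameA (repW 5 vFive) [] && sameA (repW 5 wFive) [] && sameA (vFive ++ wFive) (wFive ++ vFive)) = true := by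
  decide +kernel

theorem five_apart : apart (exps.map fun p => imgs (levels.map Level.base) (eWord p)) = true := by decide +kernel

theorem five_fix : (Cert.allPts certA.N fun x =>
    !(Nat.beq (certA.run x (certA.revInv vFive)) x) || (Nat.beq x 0 || Nat.beq x 688)) = true ∧
    (([0, 688].all fun x => Nat.beq (certA.run x (certA.revInv vFive)) x) &&
      fixW.all fun x => Nat.beq (certA.run x (certA.revInv wFive)) x) = true := by decide +kernel

theorem five_fixW : (Cert.allPts certA.N fun x =>
    !(Nat.beq (certA.run x (certA.revInv wFive)) x) || fixW.any fun y => Nat.beq x y) = true := by decide +kernel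

theorem two_fix : (twoFix.all fun p => Cert.allPts certA.N fun x =>
    !(Nat.beq (certA.run x (certA.revInv (eWord p))) x) || (Nat.beq x 0 || Nat.beq x 688)) = true := by
  decide +kernel

theorem other_fix : (exps.all fun p => twoFix.contains p || p == (0, 0) ||
    Nat.blt 2 (fixOther.filter fun x => Nat.beq (certA.run x (certA.revInv (eWord p))) x).length) = true := by decide +kernel

theorem first_point : (fixW.all fun y =>
    pick (certA.pairsOK twoMask [(0, 0)] 1 y) (Nat.beq y 688 || Nat.beq y 0 || orbOne.any fun x => Nat.beq x y) true) = true ∧
    (orbOne.all fun x => (List.range 5).any fun i => Nat.beq (certA.run 1 (certA.revInv (repW i vFive))) x) = true := by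
  decide +kernel

theorem second_point : Cert.allPts certA.N stage1OK = true := by decide +kernel

theorem third_point : Cert.allPts certA.N (certA.forcedAt twoMask (diagP stage2) 11) = true := by decide +kernel

theorem fourth_point : Cert.allPts certA.N (certA.forcedAt twoMask (diagP stage3) 160) = true := by decide +kernel

theorem base_in : ((levels.map Level.base).all fun x => (160 :: stage1).any fun y => Nat.beq x y) = true := by
  decide +kernel

theorem five_norm : ([xFour, bThree, cTwo].all fun g => [vFive, wFive].all fun u =>
    exps.any fun p => sameA (g ++ u) (eWord p ++ g)) = true := by decide +kernel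

theorem sym_table : ((List.range 3).all fun i => (List.range 2).all fun j => (List.range 3).all fun k => (List.range 2).all fun l =>
    sameA (symWord i j ++ symWord k l) (symWord ((i + if j == 0 then k else 3 - k) % 3) ((j + l) % 2))) = true := by
  decide +kernel

theorem four_table : (sameA (repW 4 xFour) [] && sameA (xFour ++ bThree) (bThree ++ xFour) &&
    sameA (xFour ++ cTwo) (cTwo ++ xFour)) = true := by decide +kernel

theorem four_sym_apart : apart (((List.range 4).flatMap fun k => (List.range 3).flatMap fun i =>
    (List.range 2).map fun j => repW k xFour ++ symWord i j).map (imgs (levels.map Level.base))) = true := by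
  decide +kernel

theorem line_conj : (lineConj.all fun l => sameA (l.2.1 ++ eWord l.1)
    (repW l.2.2.2 (if l.2.2.1 == 0 then vFive else wFive) ++ l.2.1)) = true := by decide +kernel

theorem stabiliser : ((twoFix.flatMap fun a => exps.filterMap fun d =>
    if !(twoFix.contains d) && (exps.all fun p =>
      twoFix.contains ((p.1 * a.1 + p.2 * d.1) % 5, (p.1 * a.2 + p.2 * d.2) % 5) == twoFix.contains p)
    then some (a, d) else none).length ≤ 24) := by decide +kernel

theorem lines_cover : (exps.all fun p => p == (0, 0) ||
    lineConj.any fun l => (List.range 5).any fun k => ((k * l.1.1) % 5, (k * l.1.2) % 5) == p) = true := by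
  decide +kernel

end CfsgLib.SuzSyl
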