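import Cfsg.Agent.Lib.SuzSyl.Seven

/-!
Subgroups of order five and the normaliser of a Sylow subgroup of order twenty-five.
-/

set_option autoImplicit false
set_option maxRecDepth 100000
set_option maxHeartbeats 1000000
set_option linter.style.haveILetI false

namespace CfsgLib.SuzSyl

open CfsgLib.CosetEnum CfsgLib.SuzPres Cfsg.Spor

theorem word_lt : vFive.all (fun g => Nat.blt g 7) = true ∧ wFive.all (fun g => Nat.blt g 7) = true ∧
    xFour.all (fun g => Nat.blt g 7) = true ∧ bThree.all (fun g => Nat.blt g 7) = true ∧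
    cTwo.all (fun g => Nat.blt g 7) = true ∧ ∀ l ∈ lineConj, l.2.1.all (fun g => Nat.blt g 7) = true := by
  have h := List.all_eq_true.mp five_lt
  exact ⟨h _ (by simp), h _ (by simp), h _ (by simp), h _ (by simp), h _ (by simp),
    fun l hl => h _ (List.mem_append_right _ (List.mem_map.mpr ⟨l, hl, rfl⟩))⟩

theorem rep_lt {u : List ℕ} (hu : u.all (fun g => Nat.blt g 7) = true) : ∀ n, (repW n u).all (fun g => Nat.blt g 7) = true
  | 0 => rfl
  | n + 1 => by
    rw [repW, List.replicate_succ, List.flatten_cons]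
    exact all_app hu (rep_lt hu n)

theorem el_rep (u : List ℕ) : ∀ n, el (repW n u) = el u ^ n
  | 0 => by simp [repW]
  | n + 1 => by rw [repW, List.replicate_succ, List.flatten_cons, el_app, pow_succ']; exact congrArg _ (el_rep u n)

/-- the first element of order five -/
noncomputable abbrev vF : Suz := el vFive

/-- the second element of order five -/
noncomputable abbrev wF : Suz := el wFive

/-- the element with given exponents -/
noncomputable def eEl (p : ℕ × ℕ) : Suz := vF ^ p.1 * wF ^ p.2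

theorem el_eWord (p : ℕ × ℕ) : el (eWord p) = eEl p := by rw [eWord, el_app, el_rep, el_rep]; rfl

theorem eWord_lt (p : ℕ × ℕ) : (eWord p).all (fun g => Nat.blt g 7) = true :=
  all_app (rep_lt word_lt.1 _) (rep_lt word_lt.2.1 _)

theorem pair_facts : vF ^ 5 = 1 ∧ wF ^ 5 = 1 ∧ Commute vF wF := by
  have h := five_pair
  simp only [Bool.and_eq_true] at h
  refine ⟨?_, ?_, ?_⟩
  · have := el_eq (rep_lt word_lt.1 5) rfl h.1.1
    rwa [el_rep] at this
  · have := el_eq (rep_lt word_lt.2.1 5) rfl h.1.2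
    rwa [el_rep] at this
  · have := el_eq (all_app word_lt.1 word_lt.2.1) (all_app word_lt.2.1 word_lt.1) h.2
    rwa [el_app, el_app] at this

theorem eEl_mod (i j : ℕ) : eEl (i, j) = eEl (i % 5, j % 5) := by
  rw [eEl, eEl, ← pow_mod_natCard_of_pow pair_facts.1 i, ← pow_mod_natCard_of_pow pair_facts.2.1 j]
where
  pow_mod_natCard_of_pow {g : Suz} (h : g ^ 5 = 1) (n : ℕ) : g ^ (n % 5) = g ^ n := by
    conv_rhs => rw [← Nat.mod_add_div n 5, pow_add, pow_mul, h, one_pow, mul_one]

theorem mem_exps {i j : ℕ} : (i, j) ∈ exps ↔ i < 5 ∧ j < 5 := by simp [exps]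

/-- the Sylow subgroup -/
noncomputable def pF : Subgroup Suz where
  carrier := {g | ∃ i j : ℕ, g = eEl (i, j)}
  one_mem' := ⟨0, 0, by simp [eEl]⟩
  mul_mem' := by
    rintro _ _ ⟨i, j, rfl⟩ ⟨k, l, rfl⟩
    refine ⟨i + k, j + l, ?_⟩
    show vF ^ i * wF ^ j * (vF ^ k * wF ^ l) = vF ^ (i + k) * wF ^ (j + l)
    rw [pow_add, pow_add, mul_assoc, ← mul_assoc (wF ^ j), ((pair_facts.2.2.pow_pow k j).symm).eq]
    simp only [mul_assoc]
  inv_mem' := by
    rintro _ ⟨i, j, rfl⟩
    refine ⟨4 * i, 4 * j, inv_eq_of_mul_eq_one_right ?_⟩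
    show vF ^ i * wF ^ j * (vF ^ (4 * i) * wF ^ (4 * j)) = 1
    rw [mul_assoc, ← mul_assoc (wF ^ j), ((pair_facts.2.2.pow_pow (4 * i) j).symm).eq, mul_assoc (vF ^ (4 * i)),
      ← mul_assoc, ← pow_add, ← pow_add, show i + 4 * i = 5 * i by ring, show j + 4 * j = 5 * j by ring, pow_mul,
      pow_mul, pair_facts.1, pair_facts.2.1, one_pow, one_pow, one_mul]

theorem mem_pF {g : Suz} : g ∈ pF ↔ ∃ p ∈ exps, g = eEl p :=
  ⟨fun ⟨i, j, h⟩ => ⟨(i % 5, j % 5), mem_exps.mpr ⟨Nat.mod_lt _ (by norm_num), Nat.mod_lt _ (by norm_num)⟩,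
    h.trans (eEl_mod i j)⟩, fun ⟨p, _, h⟩ => ⟨p.1, p.2, h⟩⟩

theorem base_lt : ∀ l ∈ levels, l.base < certA.N := by
  have hb : (levels.all fun l => Nat.blt l.base certA.N) = true := by decide +kernel
  simpa only [List.all_eq_true, Nat.blt_eq] using hb

theorem el_ne_of_imgs {u w : List ℕ} (hu : u.all (fun g => Nat.blt g 7) = true)
    (hw : w.all (fun g => Nat.blt g 7) = true) (h : imgs (levels.map Level.base) u ≠ imgs (levels.map Level.base) w) :
    el u ≠ el w := fun e => h (by
  refine List.map_congr_left fun x hx => ?_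
  obtain ⟨l, hl, rfl⟩ := List.mem_map.mp hx
  rw [← run_el hu ⟨l.base, base_lt l hl⟩, ← run_el hw ⟨l.base, base_lt l hl⟩, e])

theorem eEl_inj : ∀ p ∈ exps, ∀ p' ∈ exps, eEl p = eEl p' → p = p' := by
  have h := apart_spec _ five_apart
  intro p hp p' hp' e
  by_contra hne
  obtain ⟨m, hm, rfl⟩ := List.getElem_of_mem hp
  obtain ⟨n, hn, rfl⟩ := List.getElem_of_mem hp'
  rw [← el_eWord, ← el_eWord] at e
  rcases lt_trichotomy m n with hlt | heq | hlt
  · exact el_ne_of_imgs (eWord_lt _) (eWord_lt _) (List.pairwise_iff_getElem.mp h m n hm hn hlt) e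
  · subst heq; exact hne rfl
  · exact el_ne_of_imgs (eWord_lt _) (eWord_lt _) (List.pairwise_iff_getElem.mp h n m hn hm hlt) e.symm

theorem card_pF : Nat.card pF = 25 := by
  classical
  have hs : ((pF : Subgroup Suz) : Set Suz) = ((exps.map eEl).toFinset : Finset Suz) := by
    ext g
    simp only [SetLike.mem_coe, mem_pF, List.coe_toFinset, List.mem_map]
    exact ⟨fun ⟨p, hp, e⟩ => ⟨p, hp, e.symm⟩, fun ⟨p, hp, e⟩ => ⟨p, hp, e.symm⟩⟩
  have hn : (exps.map eEl).Nodup := by
    refine List.Nodup.map_on eEl_inj ?_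
    decide
  show ((pF : Subgroup Suz) : Set Suz).ncard = 25
  rw [hs, Set.ncard_coe_finset, List.toFinset_card_of_nodup hn, List.length_map]
  rfl

theorem order_five {p : ℕ × ℕ} (hp : p ∈ exps) (h0 : p ≠ (0, 0)) : orderOf (eEl p) = 5 := by
  haveI : Fact (Nat.Prime 5) := ⟨by norm_num⟩
  refine orderOf_eq_prime ?_ fun e => h0 (eEl_inj p hp (0, 0) (mem_exps.mpr ⟨by norm_num, by norm_num⟩)
    (e.trans (by simp [eEl])))
  rw [eEl, (pair_facts.2.2.pow_pow p.1 p.2).mul_pow, ← pow_mul, ← pow_mul, mul_comm p.1, mul_comm p.2, pow_mul, pow_mul,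
    pair_facts.1, pair_facts.2.1, one_pow, one_pow, one_mul]

/-- the number of fixed cosets -/
noncomputable def nfixR (g : Suz) : ℕ := Nat.card {y : Fin certA.N // rho g y = y}

theorem nfixR_conj (g n : Suz) : nfixR (n * g * n⁻¹) = nfixR g := by
  refine Nat.card_congr ((Equiv.subtypeEquiv (rho n) fun y => ?_).symm)
  rw [map_mul, map_mul, Equiv.Perm.mul_apply, Equiv.Perm.mul_apply, map_inv]
  simp

theorem fix_list {g : Suz} {l : List ℕ} (hl : l.Nodup) (hlt : ∀ x ∈ l, x < certA.N)
    (h : ∀ x, ∀ hx : x < certA.N, x ∈ l → rho g ⟨x, hx⟩ = ⟨x, hx⟩) : l.length ≤ nfixR g := by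
  let f : Fin l.length → {y : Fin certA.N // rho g y = y} := fun j =>
    ⟨⟨l[j], hlt _ (List.getElem_mem j.2)⟩, h _ _ (List.getElem_mem j.2)⟩
  have hf : Function.Injective f := fun j k e =>
    Fin.ext ((List.Nodup.getElem_inj_iff hl).mp (congrArg (fun t => ((Subtype.val t : Fin certA.N) : ℕ)) e))
  have := Nat.card_le_card_of_injective f hf
  rwa [Nat.card_fin] at this

theorem two_iff {p : ℕ × ℕ} (hp : p ∈ exps) : nfixR (eEl p) ≤ 2 ↔ p ∈ twoFix := by
  constructor
  · intro h
    by_contra hne
    have hk := List.all_eq_true.mp other_fix p hp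
    simp only [Bool.or_eq_true, List.contains_eq_mem, decide_eq_true_eq, beq_iff_eq, Nat.blt_eq, hne, false_or] at hk
    rcases hk with rfl | hk
    · have : fixW.length ≤ nfixR (eEl (0, 0)) := fix_list (by decide) (by decide) fun x hx _ => by
        simp [eEl]
      simp [fixW] at this
      omega
    · have hlt : ∀ x ∈ fixOther, x < certA.N := by
        have : (fixOther.all fun x => Nat.blt x certA.N) = true := by decide +kernel
        simpa only [List.all_eq_true, Nat.blt_eq] using this
      have := fix_list (g := eEl p) (l := fixOther.filter fun x => Nat.beq (certA.run x (certA.revInv (eWord p))) x)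
        ((show fixOther.Nodup by decide).filter _) (fun x hx => hlt x (List.mem_filter.mp hx).1) fun x hx hxm => by
          refine Fin.ext ?_
          rw [← el_eWord, run_el (eWord_lt p)]
          exact Nat.eq_of_beq_eq_true (List.mem_filter.mp hxm).2
      omega
  · intro h
    have hk := Cert.allPts_spec (List.all_eq_true.mp two_fix p h)
    let f : {y : Fin certA.N // rho (eEl p) y = y} → Fin 2 := fun y => if (y.1 : ℕ) = 0 then 0 else 1
    have hmem : ∀ y : {y : Fin certA.N // rho (eEl p) y = y}, (y.1 : ℕ) = 0 ∨ (y.1 : ℕ) = 688 := by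
      intro y
      have h := hk y.1 y.1.2
      rw [← run_el (eWord_lt p), el_eWord, y.2, show Nat.beq (y.1 : ℕ) y.1 = true by simp] at h
      simp only [Bool.not_true, Bool.false_or, Bool.or_eq_true] at h
      exact h.imp Nat.eq_of_beq_eq_true Nat.eq_of_beq_eq_true
    have hf : Function.Injective f := fun y y' e => Subtype.ext (Fin.ext (by
      rcases hmem y with a | a <;> rcases hmem y' with b | b <;> simp [f, a, b] at e <;> omega))
    have := Nat.card_le_card_of_injective f hf
    rwa [Nat.card_fin] at this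

theorem eEl_ten : eEl (1, 0) = vF ∧ eEl (0, 1) = wF := by simp [eEl]

/-- An element commuting with both and fixing the base coset lies in the subgroup. -/
theorem cent_base {g : Suz} (hv : Commute g vF) (hw : Commute g wF) (h0 : rho g setupA.base = setupA.base) :
    g ∈ pF := by
  obtain ⟨hfv, hfw⟩ := five_fix
  simp only [Bool.and_eq_true, List.all_eq_true] at hfw
  have vfix : ∀ x : Fin certA.N, rho vF x = x → (x : ℕ) = 0 ∨ (x : ℕ) = 688 := by
    intro x hx
    have h := Cert.allPts_spec hfv x x.2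
    rw [← run_el word_lt.1, hx, show Nat.beq (x : ℕ) x = true by simp] at h
    simp only [Bool.not_true, Bool.false_or, Bool.or_eq_true] at h
    exact h.imp Nat.eq_of_beq_eq_true Nat.eq_of_beq_eq_true
  have h688 : 688 < certA.N := by decide +kernel
  set f : Fin certA.N := ⟨688, h688⟩ with hf
  have hvf : rho vF f = f := Fin.ext ((run_el word_lt.1 f).trans (Nat.eq_of_beq_eq_true (hfw.1 688 (by simp))))
  have hgf : rho g f = f := by
    rcases vfix _ (fix_pow hv.symm hvf) with h | h
    · have e := congrArg Fin.val ((rho g).injective ((Fin.ext h : rho g f = setupA.base).trans h0.symm))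
      simp [hf, Setup.base] at e
    · exact Fin.ext h
  have h1 : 1 < certA.N := by decide +kernel
  set a : Fin certA.N := ⟨1, h1⟩ with ha
  have hwa : rho wF a = a :=
    Fin.ext ((run_el word_lt.2.1 a).trans (Nat.eq_of_beq_eq_true (hfw.2 1 (by simp [fixW]))))
  -- the image of the first point
  obtain ⟨i, hi⟩ : ∃ i : ℕ, rho g a = rho (vF ^ i) a := by
    have hy := fix_pow hw.symm hwa
    have hin : ((rho g a : Fin certA.N) : ℕ) ∈ fixW := by
      have h := Cert.allPts_spec five_fixW (rho g a : ℕ) (Fin.isLt _)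
      rw [← run_el word_lt.2.1, hy, show Nat.beq (rho g a : ℕ) (rho g a) = true by simp] at h
      simp only [Bool.not_true, Bool.false_or, List.any_eq_true] at h
      obtain ⟨u, hu, e⟩ := h
      rwa [Nat.eq_of_beq_eq_true e]
    have h := List.all_eq_true.mp first_point.1 _ hin
    rw [show certA.pairsOK twoMask [(0, 0)] 1 (rho g a : ℕ) = true from
      setupA.pairsOK_of repWordsA maskA (g := g) (fun q hq => ⟨setupA.base, by
        rw [List.mem_singleton.mp hq]; exact ⟨rfl, congrArg Fin.val h0⟩⟩) a, pick_true] at h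
    simp only [Bool.or_eq_true, List.any_eq_true] at h
    rcases h with (h | h) | ⟨u, hu, h⟩
    · have e := congrArg Fin.val ((rho g).injective (Fin.ext (Nat.eq_of_beq_eq_true h) |>.trans hgf.symm : rho g a = rho g f))
      simp [ha, hf] at e
    · have e := congrArg Fin.val ((rho g).injective
        ((Fin.ext (Nat.eq_of_beq_eq_true h) : rho g a = setupA.base).trans h0.symm))
      simp [ha, Setup.base] at e
    · have h' := List.all_eq_true.mp first_point.2 u hu
      simp only [List.any_eq_true] at h'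
      obtain ⟨i, -, h'⟩ := h'
      exact ⟨i, Fin.ext (by
        rw [← el_rep, run_el (rep_lt word_lt.1 i), ← Nat.eq_of_beq_eq_true h]
        exact (Nat.eq_of_beq_eq_true h').symm)⟩
  set g1 := (vF ^ i)⁻¹ * g with hg1
  have hv1 : Commute g1 vF := ((Commute.refl vF).pow_left i).inv_left.mul_left hv
  have hw1 : Commute g1 wF := (pair_facts.2.2.pow_left i).inv_left.mul_left hw
  have vi_fix : ∀ x, rho vF x = x → rho (vF ^ i)⁻¹ x = x := fun x hx => by
    rw [map_inv, map_pow, Equiv.Perm.inv_eq_iff_eq]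
    exact (Function.IsFixedPt.iterate hx i |> fun h => by rw [Equiv.Perm.coe_pow]; exact h.symm)
  have hv0 : rho vF setupA.base = setupA.base :=
    Fin.ext ((run_el word_lt.1 _).trans (Nat.eq_of_beq_eq_true (hfw.1 0 (by simp))))
  have g1base : rho g1 setupA.base = setupA.base := by rw [hg1, map_mul, Equiv.Perm.mul_apply, h0, vi_fix _ hv0]
  have g1f : rho g1 f = f := by rw [hg1, map_mul, Equiv.Perm.mul_apply, hgf, vi_fix _ hvf]
  have g1a : rho g1 a = a := by
    rw [hg1, map_mul, Equiv.Perm.mul_apply, hi, ← Equiv.Perm.mul_apply, ← map_mul, inv_mul_cancel, map_one,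
      Equiv.Perm.one_apply]
  -- fixing the first stage
  have s1 : ∀ k : Suz, Commute k vF → rho k setupA.base = setupA.base → rho k f = f → rho k a = a →
      ∀ x : Fin certA.N, (x : ℕ) ∈ stage1 → rho k x = x := by
    intro k hk k0 kf ka x hx
    simp only [stage1, List.mem_append, List.mem_cons, List.not_mem_nil, or_false] at hx
    rcases hx with (hx | hx) | hx
    · rw [show x = setupA.base from Fin.ext hx]; exact k0
    · rw [show x = f from Fin.ext hx]; exact kf
    · have h' := List.all_eq_true.mp first_point.2 _ hx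
      simp only [List.any_eq_true] at h'
      obtain ⟨j, -, h'⟩ := h'
      have e : rho (vF ^ j) a = x := Fin.ext (by
        rw [← el_rep, run_el (rep_lt word_lt.1 j)]; exact Nat.eq_of_beq_eq_true h')
      rw [← e]
      exact fix_pow (hk.pow_right j) ka
  have pairs : ∀ (k : Suz) (l : List ℕ), (∀ x ∈ l, x < certA.N) → (∀ x : Fin certA.N, (x : ℕ) ∈ l → rho k x = x) →
      ∀ q ∈ diagP l, ∃ y : Fin certA.N, (y : ℕ) = q.1 ∧ (rho k y : ℕ) = q.2 := by
    intro k l hl hfix q hq
    obtain ⟨x, hx, rfl⟩ := List.mem_map.mp hq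
    exact ⟨⟨x, hl x hx⟩, rfl, congrArg Fin.val (hfix _ hx)⟩
  have ltN : (∀ x ∈ stage1, x < certA.N) ∧ (∀ x ∈ stage2, x < certA.N) ∧ ∀ x ∈ stage3, x < certA.N := by
    have : ((stage3).all fun x => Nat.blt x certA.N) = true := by decide +kernel
    simp only [List.all_eq_true, Nat.blt_eq] at this
    exact ⟨fun x hx => this x (List.mem_append_left _ (List.mem_append_left _ hx)),
      fun x hx => this x (List.mem_append_left _ hx), this⟩
  -- the point of the second stage
  have h169 : 169 < certA.N := by decide +kernel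
  set b : Fin certA.N := ⟨169, h169⟩ with hb
  obtain ⟨j, hj⟩ : ∃ j : ℕ, rho g1 b = rho (wF ^ j) b := by
    have h := Cert.allPts_spec second_point (rho g1 b : ℕ) (Fin.isLt _)
    rw [stage1OK, band_eq_true.mpr ⟨setupA.pairsOK_of repWordsA maskA
        (pairs g1 _ ltN.1 (s1 g1 hv1 g1base g1f g1a)) b,
      band_eq_true.mpr ⟨setupA.shiftOK_of repWordsA maskA (lt_seven word_lt.1) hv1 5 b,
        setupA.shiftOK_of repWordsA maskA (lt_seven word_lt.2.1) hw1 5 b⟩⟩, pick_true] at h
    simp only [List.any_eq_true] at h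
    obtain ⟨j, -, h⟩ := h
    exact ⟨j, Fin.ext (by rw [← el_rep, run_el (rep_lt word_lt.2.1 j)]; exact (Nat.eq_of_beq_eq_true h).symm)⟩
  set g2 := (wF ^ j)⁻¹ * g1 with hg2
  have hv2 : Commute g2 vF := (pair_facts.2.2.symm.pow_left j).inv_left.mul_left hv1
  have hw2 : Commute g2 wF := ((Commute.refl wF).pow_left j).inv_left.mul_left hw1
  have wj_fix : ∀ x : Fin certA.N, (x : ℕ) ∈ fixW → rho (wF ^ j)⁻¹ x = x := fun x hx => by
    have hx' : rho wF x = x := Fin.ext ((run_el word_lt.2.1 x).trans (Nat.eq_of_beq_eq_true (hfw.2 _ hx)))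
    rw [map_inv, map_pow, Equiv.Perm.inv_eq_iff_eq]
    exact (Function.IsFixedPt.iterate hx' j |> fun h => by rw [Equiv.Perm.coe_pow]; exact h.symm)
  have g2base : rho g2 setupA.base = setupA.base := by
    rw [hg2, map_mul, Equiv.Perm.mul_apply, g1base, wj_fix _ (by simp [fixW, Setup.base])]
  have g2f : rho g2 f = f := by rw [hg2, map_mul, Equiv.Perm.mul_apply, g1f, wj_fix _ (by simp [fixW, hf])]
  have g2a : rho g2 a = a := by rw [hg2, map_mul, Equiv.Perm.mul_apply, g1a, wj_fix _ (by simp [fixW, ha])]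
  have g2b : rho g2 b = b := by
    rw [hg2, map_mul, Equiv.Perm.mul_apply, hj, ← Equiv.Perm.mul_apply, ← map_mul, inv_mul_cancel, map_one,
      Equiv.Perm.one_apply]
  have s2 : ∀ x : Fin certA.N, (x : ℕ) ∈ stage2 → rho g2 x = x := by
    intro x hx
    rcases List.mem_append.mp hx with hx | hx
    · exact s1 g2 hv2 g2base g2f g2a x hx
    · obtain ⟨p, -, hp⟩ := List.mem_map.mp hx
      have e : rho (eEl p) b = x := Fin.ext (by rw [← el_eWord, run_el (eWord_lt p)]; exact hp)
      rw [← e]
      exact fix_pow ((hv2.pow_right p.1).mul_right (hw2.pow_right p.2)) g2b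
  have forced : ∀ (l : List ℕ) (x : Fin certA.N), (∀ u ∈ l, u < certA.N) →
      (∀ u : Fin certA.N, (u : ℕ) ∈ l → rho g2 u = u) →
      Cert.allPts certA.N (certA.forcedAt twoMask (diagP l) x) = true → rho g2 x = x := by
    intro l x hl hfix hall
    have h := Cert.allPts_spec hall (rho g2 x : ℕ) (Fin.isLt _)
    rw [Cert.forcedAt, setupA.pairsOK_of repWordsA maskA (pairs g2 l hl hfix) x, pick_true] at h
    exact Fin.ext (Nat.eq_of_beq_eq_true h)
  have h11 : 11 < certA.N := by decide +kernel
  have g2c := forced _ ⟨11, h11⟩ ltN.2.1 s2 third_point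
  have s3 : ∀ x : Fin certA.N, (x : ℕ) ∈ stage3 → rho g2 x = x := by
    intro x hx
    rcases List.mem_append.mp hx with hx | hx
    · exact s2 x hx
    · obtain ⟨m, -, hm⟩ := List.mem_map.mp hx
      have e : rho (vF ^ m) ⟨11, h11⟩ = x := Fin.ext (by rw [← el_rep, run_el (rep_lt word_lt.1 m)]; exact hm)
      rw [← e]
      exact fix_pow (hv2.pow_right m) g2c
  have h160 : 160 < certA.N := by decide +kernel
  have g2d := forced _ ⟨160, h160⟩ ltN.2.2 s3 fourth_point
  have g2one : g2 = 1 := by
    refine setupA.base_injective chain_ok SuzPres.hsize ?_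
    simp only [baseImages, chainBases, List.map_map, map_one]
    refine List.map_congr_left fun l hl => ?_
    simp only [Function.comp_apply, dif_pos (base_lt l hl), Option.map_some, Equiv.Perm.one_apply, Option.some.injEq]
    have hb' := List.all_eq_true.mp base_in _ (List.mem_map_of_mem hl)
    simp only [List.any_eq_true] at hb'
    obtain ⟨u, hu, e⟩ := hb'
    have e' := Nat.eq_of_beq_eq_true e
    rcases List.mem_cons.mp hu with rfl | hu
    · rw [show (⟨l.base, base_lt l hl⟩ : Fin certA.N) = ⟨160, h160⟩ from Fin.ext e']; exact g2d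
    · exact s1 g2 hv2 g2base g2f g2a _ (show l.base ∈ stage1 from e' ▸ hu)
  have : g = eEl (i, j) := by
    rw [hg2, inv_mul_eq_one] at g2one
    rw [eEl, g2one, hg1, mul_inv_cancel_left]
  exact ⟨i, j, this⟩

theorem cent_small : Nat.card ↥(Subgroup.centralizer (pF : Set Suz)) ≤ 50 := by
  classical
  set C := Subgroup.centralizer (pF : Set Suz) with hC
  obtain ⟨hfv, hfw⟩ := five_fix
  simp only [Bool.and_eq_true, List.all_eq_true] at hfw
  have hv : ∀ g ∈ C, Commute g vF := fun g hg =>
    (Subgroup.mem_centralizer_iff.mp hg vF ⟨1, 0, eEl_ten.1.symm⟩).symm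
  have hw : ∀ g ∈ C, Commute g wF := fun g hg =>
    (Subgroup.mem_centralizer_iff.mp hg wF ⟨0, 1, eEl_ten.2.symm⟩).symm
  have hv0 : rho vF setupA.base = setupA.base :=
    Fin.ext ((run_el word_lt.1 _).trans (Nat.eq_of_beq_eq_true (hfw.1 0 (by simp))))
  have hmem : ∀ g ∈ C, (rho g setupA.base : ℕ) = 0 ∨ (rho g setupA.base : ℕ) = 688 := by
    intro g hg
    have hx := fix_pow (hv g hg).symm hv0
    have h := Cert.allPts_spec hfv (rho g setupA.base : ℕ) (Fin.isLt _)
    rw [← run_el word_lt.1, hx, show Nat.beq (rho g setupA.base : ℕ) (rho g setupA.base) = true by simp] at h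
    simp only [Bool.not_true, Bool.false_or, Bool.or_eq_true] at h
    exact h.imp Nat.eq_of_beq_eq_true Nat.eq_of_beq_eq_true
  by_cases hall : ∀ g ∈ C, rho g setupA.base = setupA.base
  · have : C ≤ pF := fun g hg => cent_base (hv g hg) (hw g hg) (hall g hg)
    exact (Subgroup.card_le_of_le this).trans (by rw [card_pF]; norm_num)
  · simp only [not_forall] at hall
    obtain ⟨s, hs, hs0⟩ := hall
    have hsub : (C : Set Suz) ⊆ (pF : Set Suz) ∪ (fun t => s * t) '' (pF : Set Suz) := by
      intro g hg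
      by_cases hg0 : rho g setupA.base = setupA.base
      · exact Or.inl (cent_base (hv g hg) (hw g hg) hg0)
      · have hbase : ∀ k : Suz, rho k setupA.base ≠ setupA.base → (rho k setupA.base : ℕ) ≠ 0 := fun k hk e =>
          hk (Fin.ext e)
        have e : rho g setupA.base = rho s setupA.base :=
          Fin.ext (((hmem g hg).resolve_left (hbase g hg0)).trans ((hmem s hs).resolve_left (hbase s hs0)).symm)
        refine Or.inr ⟨s⁻¹ * g, cent_base ((hv s hs).inv_left.mul_left (hv g hg))
          ((hw s hs).inv_left.mul_left (hw g hg)) ?_, by simp⟩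
        rw [map_mul, Equiv.Perm.mul_apply, e, ← Equiv.Perm.mul_apply, ← map_mul, inv_mul_cancel, map_one,
          Equiv.Perm.one_apply]
    have hp : ((pF : Subgroup Suz) : Set Suz).ncard = 25 := card_pF
    calc Nat.card C = (C : Set Suz).ncard := rfl
      _ ≤ ((pF : Set Suz) ∪ (fun t => s * t) '' (pF : Set Suz)).ncard := Set.ncard_le_ncard hsub (Set.toFinite _)
      _ ≤ (pF : Set Suz).ncard + ((fun t => s * t) '' (pF : Set Suz)).ncard := Set.ncard_union_le _ _
      _ ≤ 50 := by have := Set.ncard_image_le (f := fun t => s * t) (Set.toFinite (pF : Set Suz)); omega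

end CfsgLib.SuzSyl
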