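import Cfsg.Agent.Lib.SuzSyl.Five

/-!
The normaliser of the Sylow subgroup of order twenty-five and the two classes of subgroups of order five.
-/

set_option autoImplicit false
set_option maxRecDepth 100000
set_option maxHeartbeats 1000000
set_option linter.style.haveILetI false

namespace CfsgLib.SuzSyl

open CfsgLib.CosetEnum CfsgLib.SuzPres Cfsg.Spor

/-- the six permutations -/
def symPerm (p : Fin 3 × Fin 2) : Equiv.Perm (Fin 3) := finRotate 3 ^ (p.1 : ℕ) * Equiv.swap 1 2 ^ (p.2 : ℕ)

/-- the product of exponents -/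
def symMul (a b : Fin 3 × Fin 2) : Fin 3 × Fin 2 := (if a.2 = 0 then a.1 + b.1 else a.1 - b.1, a.2 + b.2)

theorem symPerm_mul : ∀ a b, symPerm a * symPerm b = symPerm (symMul a b) := by decide

theorem symPerm_bij : Function.Bijective symPerm :=
  (Fintype.bijective_iff_injective_and_card symPerm).mpr ⟨by decide, by decide⟩

theorem symMul_val : ∀ a b : Fin 3 × Fin 2, ((symMul a b).1 : ℕ) =
      ((a.1 : ℕ) + if ((a.2 : ℕ) == 0) then (b.1 : ℕ) else 3 - (b.1 : ℕ)) % 3 ∧
    ((symMul a b).2 : ℕ) = ((a.2 : ℕ) + (b.2 : ℕ)) % 2 := by decide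

theorem symWord_lt (i j : ℕ) : (symWord i j).all (fun g => Nat.blt g 7) = true :=
  all_app (rep_lt word_lt.2.2.2.1 i) (rep_lt word_lt.2.2.2.2.1 j)

theorem sym_mul (a b : Fin 3 × Fin 2) :
    el (symWord a.1 a.2) * el (symWord b.1 b.2) = el (symWord (symMul a b).1 (symMul a b).2) := by
  have h := sym_table
  simp only [List.all_eq_true, List.mem_range] at h
  have h := h a.1 a.1.2 a.2 a.2.2 b.1 b.1.2 b.2 b.2.2
  rw [← el_app]
  refine el_eq (all_app (symWord_lt _ _) (symWord_lt _ _)) (symWord_lt _ _) ?_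
  rw [(symMul_val a b).1, (symMul_val a b).2]
  exact h

theorem four_facts : el xFour ^ 4 = 1 ∧ Commute (el xFour) (el bThree) ∧ Commute (el xFour) (el cTwo) := by
  obtain ⟨-, -, hx, hb, hc, -⟩ := word_lt
  have h := four_table
  simp only [Bool.and_eq_true] at h
  refine ⟨?_, ?_, ?_⟩
  · have := el_eq (rep_lt hx 4) rfl h.1.1
    rwa [el_rep] at this
  · have := el_eq (all_app hx hb) (all_app hb hx) h.1.2
    rwa [el_app, el_app] at this
  · have := el_eq (all_app hx hc) (all_app hc hx) h.2
    rwa [el_app, el_app] at this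

/-- the symmetric group inside -/
noncomputable def symHom : Equiv.Perm (Fin 3) →* Suz :=
  MonoidHom.mk' (fun σ => el (symWord ((Equiv.ofBijective _ symPerm_bij).symm σ).1
    ((Equiv.ofBijective _ symPerm_bij).symm σ).2)) fun σ τ => by
    set e := Equiv.ofBijective _ symPerm_bij
    have : e.symm (σ * τ) = symMul (e.symm σ) (e.symm τ) := by
      rw [Equiv.symm_apply_eq]
      show σ * τ = symPerm _
      rw [← symPerm_mul]
      conv_lhs => rw [← e.apply_symm_apply σ, ← e.apply_symm_apply τ]
      rfl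
    simp only [this]
    exact (sym_mul _ _).symm

/-- the cyclic group inside -/
noncomputable def fourHom : Multiplicative (ZMod 4) →* Suz :=
  MonoidHom.mk' (fun k => el xFour ^ (Multiplicative.toAdd k).val) fun k l => by
    rw [toAdd_mul, ZMod.val_add, ← pow_add]
    conv_rhs => rw [← Nat.mod_add_div (_ + _) 4, pow_add, pow_mul, four_facts.1, one_pow, mul_one]

theorem four_sym_comm (k : Multiplicative (ZMod 4)) (σ : Equiv.Perm (Fin 3)) : Commute (fourHom k) (symHom σ) := by
  show Commute (el xFour ^ _) (el (repW _ bThree ++ repW _ cTwo))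
  rw [el_app, el_rep, el_rep]
  exact ((four_facts.2.1.pow_right _).mul_right (four_facts.2.2.pow_right _)).pow_left _

/-- the complement -/
noncomputable def complHom : Multiplicative (ZMod 4) × Equiv.Perm (Fin 3) →* Suz :=
  MonoidHom.noncommCoprod fourHom symHom four_sym_comm

theorem complHom_inj : Function.Injective complHom := by
  intro a b e
  by_contra hne
  set e6 := Equiv.ofBijective _ symPerm_bij
  let key : Multiplicative (ZMod 4) × Equiv.Perm (Fin 3) → List ℕ := fun t =>
    repW (Multiplicative.toAdd t.1).val xFour ++ symWord (e6.symm t.2).1 (e6.symm t.2).2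
  have hval : ∀ t, el (key t) = complHom t := fun t => by
    show el (repW _ xFour ++ _) = _ * _
    rw [el_app, el_rep]
    rfl
  set L := (List.range 4).flatMap fun k => (List.range 3).flatMap fun i =>
    (List.range 2).map fun j => repW k xFour ++ symWord i j
  let pos : Multiplicative (ZMod 4) × Equiv.Perm (Fin 3) → ℕ := fun t =>
    (Multiplicative.toAdd t.1).val * 6 + (e6.symm t.2).1 * 2 + (e6.symm t.2).2
  have hpos : ∀ t, ∃ h : pos t < L.length, L[pos t] = key t := by
    have hg : ∀ k < 4, ∀ i < 3, ∀ j < 2, L.getD (k * 6 + i * 2 + j) [] = repW k xFour ++ symWord i j := by decide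
    intro t
    have h4 : (Multiplicative.toAdd t.1).val < 4 := ZMod.val_lt _
    have hlt : pos t < L.length := by
      have : L.length = 24 := by decide
      have := (e6.symm t.2).1.2
      have := (e6.symm t.2).2.2
      simp only [pos]; omega
    exact ⟨hlt, by rw [← List.getD_eq_getElem L [] hlt]; exact hg _ h4 _ (e6.symm t.2).1.2 _ (e6.symm t.2).2.2⟩
  have hlt : ∀ t, (key t).all (fun g => Nat.blt g 7) = true := fun t =>
    all_app (rep_lt word_lt.2.2.1 _) (symWord_lt _ _)
  have hp := List.pairwise_iff_getElem.mp (apart_spec _ four_sym_apart)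
  obtain ⟨ha, ea⟩ := hpos a
  obtain ⟨hb, eb⟩ := hpos b
  rw [← hval, ← hval] at e
  rcases lt_trichotomy (pos a) (pos b) with hl | heq | hl
  · have := hp _ _ ha hb hl
    rw [ea, eb] at this
    exact el_ne_of_imgs (hlt a) (hlt b) this e
  · apply hne
    have := (e6.symm a.2).1.2
    have := (e6.symm b.2).1.2
    have := (e6.symm a.2).2.2
    have := (e6.symm b.2).2.2
    simp only [pos] at heq
    refine Prod.ext (Multiplicative.toAdd.injective (ZMod.val_injective _ (by omega)))
      (e6.symm.injective (Prod.ext (Fin.ext (by omega)) (Fin.ext (by omega))))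
  · have := hp _ _ hb ha hl
    rw [ea, eb] at this
    exact el_ne_of_imgs (hlt b) (hlt a) this e.symm

theorem gen_norm : ∀ g ∈ [xFour, bThree, cTwo], el g ∈ Subgroup.normalizer (pF : Set Suz) := by
  intro g hg
  have hgl : g.all (fun g => Nat.blt g 7) = true := by
    simp only [List.mem_cons, List.not_mem_nil, or_false] at hg
    rcases hg with rfl | rfl | rfl
    exacts [word_lt.2.2.1, word_lt.2.2.2.1, word_lt.2.2.2.2.1]
  have h := List.all_eq_true.mp five_norm g hg
  simp only [List.all_eq_true, List.any_eq_true] at h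
  have conj1 : ∀ u, u = vFive ∨ u = wFive → el g * el u * (el g)⁻¹ ∈ pF := by
    intro u hu
    obtain ⟨p, -, hp⟩ := h u (by simpa using hu)
    have hul : u.all (fun g => Nat.blt g 7) = true := by rcases hu with rfl | rfl; exacts [word_lt.1, word_lt.2.1]
    have e := el_eq (all_app hgl hul) (all_app (eWord_lt p) hgl) hp
    rw [el_app, el_app, el_eWord] at e
    exact ⟨p.1, p.2, by rw [e, mul_inv_cancel_right]⟩
  have key : ∀ y ∈ pF, el g * y * (el g)⁻¹ ∈ pF := by
    rintro _ ⟨i, j, rfl⟩
    rw [eEl, ← conj_mul, ← conj_pow, ← conj_pow]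
    exact mul_mem (pow_mem (conj1 vFive (Or.inl rfl)) i) (pow_mem (conj1 wFive (Or.inr rfl)) j)
  let f : pF → pF := fun t => ⟨el g * t * (el g)⁻¹, key t t.2⟩
  have hf : Function.Injective f := fun t t' e => Subtype.ext (by simpa [f] using e)
  refine Subgroup.mem_normalizer_iff.mpr fun y => ⟨key y, fun hy => ?_⟩
  obtain ⟨t, ht⟩ := (Finite.injective_iff_surjective.mp hf) ⟨_, hy⟩
  have e : el g * t * (el g)⁻¹ = el g * y * (el g)⁻¹ := congrArg Subtype.val ht
  rw [← mul_left_cancel (mul_right_cancel e)]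
  exact t.2

theorem compl_norm : ∀ t, complHom t ∈ Subgroup.normalizer (pF : Set Suz) := by
  intro t
  show el xFour ^ _ * el (repW _ bThree ++ repW _ cTwo) ∈ _
  rw [el_app, el_rep, el_rep]
  exact mul_mem (pow_mem (gen_norm xFour (by simp)) _)
    (mul_mem (pow_mem (gen_norm bThree (by simp)) _) (pow_mem (gen_norm cTwo (by simp)) _))

theorem arith_five {c n : ℕ} (hc : c = 25 ∨ c = 50) (hn : n ≤ 24) (hd : 600 ∣ n * c)
    (hm : 448345497600 / (n * c) % 5 = 1) (hpos : 0 < n) : n * c = 600 := by
  rcases hc with rfl | rfl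
  · have := Nat.le_of_dvd (by omega) hd; omega
  · obtain ⟨k, hk⟩ := hd
    have : k = 1 ∨ k = 2 := by omega
    rcases this with rfl | rfl
    · omega
    · exfalso
      rw [hk] at hm
      norm_num at hm

theorem five_norm_std : Nat.card ↥(Subgroup.normalizer (pF : Set Suz)) = 600 := by
  classical
  set N := Subgroup.normalizer (pF : Set Suz) with hN
  set C := Subgroup.centralizer (pF : Set Suz) with hC
  have hPC : pF ≤ C := fun g hg => Subgroup.mem_centralizer_iff.mpr fun k hk => by
    obtain ⟨i, j, rfl⟩ := hg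
    obtain ⟨a, b, rfl⟩ := hk
    have h := pair_facts.2.2
    exact ((((Commute.refl vF).pow_pow a i).mul_right (h.pow_pow a j)).mul_left
      ((h.symm.pow_pow b i).mul_right ((Commute.refl wF).pow_pow b j))).eq
  have hCN : C ≤ N := by
    intro g hg
    have key : ∀ y ∈ pF, g * y * g⁻¹ = y := fun y hy => by
      rw [(Subgroup.mem_centralizer_iff.mp hg y hy).symm, mul_inv_cancel_right]
    refine Subgroup.mem_normalizer_iff.mpr fun y => ⟨fun h => by rw [key y h]; exact h, fun h => ?_⟩
    have e : g * y * g⁻¹ = y := mul_left_cancel (a := g) (mul_right_cancel (b := g⁻¹) (key _ h))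
    rwa [e] at h
  have hC' : Nat.card C = 25 ∨ Nat.card C = 50 := by
    obtain ⟨k, hk⟩ : 25 ∣ Nat.card C := card_pF ▸ Subgroup.card_dvd_of_le hPC
    have h50 : Nat.card C ≤ 50 := cent_small
    have hpos : 0 < Nat.card C := Nat.card_pos
    omega
  set pairs : List ((ℕ × ℕ) × (ℕ × ℕ)) := twoFix.flatMap fun a => exps.filterMap fun dd =>
    if !(twoFix.contains dd) && (exps.all fun p =>
      twoFix.contains ((p.1 * a.1 + p.2 * dd.1) % 5, (p.1 * a.2 + p.2 * dd.2) % 5) == twoFix.contains p)
    then some (a, dd) else none with hpairs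
  have himg : ∀ n : ↥N, ∃ t ∈ pairs, (n : Suz) * vF * (n : Suz)⁻¹ = eEl t.1 ∧ (n : Suz) * wF * (n : Suz)⁻¹ = eEl t.2 := by
    intro n
    have hn := Subgroup.mem_normalizer_iff.mp n.2
    obtain ⟨a, ha, hae⟩ := mem_pF.mp ((hn vF).mp ⟨1, 0, eEl_ten.1.symm⟩)
    obtain ⟨dd, hd, hde⟩ := mem_pF.mp ((hn wF).mp ⟨0, 1, eEl_ten.2.symm⟩)
    have lin : ∀ p : ℕ × ℕ, (n : Suz) * eEl p * (n : Suz)⁻¹ =
        eEl ((p.1 * a.1 + p.2 * dd.1) % 5, (p.1 * a.2 + p.2 * dd.2) % 5) := by
      intro p
      rw [← eEl_mod, eEl, ← conj_mul, ← conj_pow, ← conj_pow, hae, hde, eEl, eEl, eEl,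
        (pair_facts.2.2.pow_pow _ _).mul_pow, (pair_facts.2.2.pow_pow _ _).mul_pow,
        ← pow_mul, ← pow_mul, ← pow_mul, ← pow_mul]
      rw [mul_comm a.1 p.1, mul_comm a.2 p.1, mul_comm dd.1 p.2, mul_comm dd.2 p.2,
        pow_add, pow_add, mul_assoc, ← mul_assoc (wF ^ (p.1 * a.2)),
        (pair_facts.2.2.pow_pow (p.2 * dd.1) (p.1 * a.2)).symm.eq]
      simp only [mul_assoc]
    have same : ∀ p ∈ exps, (((p.1 * a.1 + p.2 * dd.1) % 5, (p.1 * a.2 + p.2 * dd.2) % 5) ∈ twoFix ↔ p ∈ twoFix) := by
      intro p hp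
      rw [← two_iff hp, ← two_iff (mem_exps.mpr ⟨Nat.mod_lt _ (by norm_num), Nat.mod_lt _ (by norm_num)⟩),
        ← lin, nfixR_conj]
    have ha2 : a ∈ twoFix := (two_iff ha).mp (by
      rw [← hae, nfixR_conj, ← eEl_ten.1]
      exact (two_iff (mem_exps.mpr ⟨by norm_num, by norm_num⟩)).mpr (by decide))
    have hd2 : dd ∉ twoFix := fun hmem => by
      have h := (two_iff hd).mpr hmem
      rw [← hde, nfixR_conj, ← eEl_ten.2] at h
      exact absurd ((two_iff (mem_exps.mpr ⟨by norm_num, by norm_num⟩)).mp h) (by decide)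
    refine ⟨(a, dd), ?_, hae, hde⟩
    simp only [hpairs, List.mem_flatMap, List.mem_filterMap]
    refine ⟨a, ha2, dd, hd, if_pos ?_⟩
    simp only [Bool.and_eq_true, Bool.not_eq_true', List.contains_eq_mem, decide_eq_false_iff_not, List.all_eq_true,
      beq_iff_eq, decide_eq_decide]
    exact ⟨hd2, same⟩
  haveI hCn : (C.subgroupOf N).Normal := ⟨fun c hc n => by
    rw [Subgroup.mem_subgroupOf, hC, Subgroup.mem_centralizer_iff] at hc ⊢
    intro k hk
    have hk' : (n : Suz)⁻¹ * k * n ∈ pF := (Subgroup.mem_normalizer_iff.mp n.2 _).mpr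
      (by rwa [show (n : Suz) * ((n : Suz)⁻¹ * k * n) * (n : Suz)⁻¹ = k by group])
    have e := hc _ hk'
    show k * ((n : Suz) * c * (n : Suz)⁻¹) = (n : Suz) * c * (n : Suz)⁻¹ * k
    calc k * ((n : Suz) * c * (n : Suz)⁻¹) = n * ((n : Suz)⁻¹ * k * n * c) * (n : Suz)⁻¹ := by group
      _ = n * (c * ((n : Suz)⁻¹ * k * n)) * (n : Suz)⁻¹ := by rw [e]
      _ = _ := by group⟩
  have hidx : (C.subgroupOf N).index ≤ 24 := by
    choose t ht hv hw using himg
    let f : N ⧸ C.subgroupOf N → Fin pairs.length := fun u =>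
      ⟨pairs.idxOf (t u.out), List.idxOf_lt_length_of_mem (ht u.out)⟩
    have hf : Function.Injective f := by
      intro u u' h
      have e : t u.out = t u'.out := (List.idxOf_inj (ht _)).mp (congrArg Fin.val h)
      rw [← QuotientGroup.out_eq' u, ← QuotientGroup.out_eq' u']
      refine QuotientGroup.eq.mpr (Subgroup.mem_subgroupOf.mpr ?_)
      show (u.out : Suz)⁻¹ * (u'.out : Suz) ∈ C
      have comm : ∀ k, (u.out : Suz) * k * (u.out : Suz)⁻¹ = (u'.out : Suz) * k * (u'.out : Suz)⁻¹ →
          Commute ((u.out : Suz)⁻¹ * (u'.out : Suz)) k := fun k hk => by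
        show (u.out : Suz)⁻¹ * (u'.out : Suz) * k = k * ((u.out : Suz)⁻¹ * (u'.out : Suz))
        calc (u.out : Suz)⁻¹ * (u'.out : Suz) * k =
            (u.out : Suz)⁻¹ * ((u'.out : Suz) * k * (u'.out : Suz)⁻¹) * (u'.out : Suz) := by group
          _ = (u.out : Suz)⁻¹ * ((u.out : Suz) * k * (u.out : Suz)⁻¹) * (u'.out : Suz) := by rw [hk]
          _ = _ := by group
      refine Subgroup.mem_centralizer_iff.mpr fun k hk => ?_
      obtain ⟨i, j, rfl⟩ := hk
      exact (((comm vF (by rw [hv, hv, e])).pow_right i).mul_right ((comm wF (by rw [hw, hw, e])).pow_right j)).eq.symm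
    calc (C.subgroupOf N).index = Nat.card (N ⧸ C.subgroupOf N) := rfl
      _ ≤ Nat.card (Fin pairs.length) := Nat.card_le_card_of_injective f hf
      _ ≤ 24 := by rw [Nat.card_fin]; exact stabiliser
  have hcN : Nat.card N = (C.subgroupOf N).index * Nat.card C := by
    rw [← Nat.card_congr (Subgroup.subgroupOfEquivOfLe hCN).toEquiv, Subgroup.index_mul_card]
  have d25 : 25 ∣ Nat.card N := card_pF ▸ Subgroup.card_dvd_of_le (hPC.trans hCN)
  have d24 : 24 ∣ Nat.card N := by
    have h : Nat.card complHom.range = 24 := by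
      rw [← Nat.card_congr (MonoidHom.ofInjective complHom_inj).toEquiv, Nat.card_prod, Nat.card_perm]
      simp [Nat.factorial]
    rw [← h]
    exact Subgroup.card_dvd_of_le (by rintro _ ⟨t, rfl⟩; exact compl_norm t)
  haveI : Fact (Nat.Prime 5) := ⟨by norm_num⟩
  have hn5 : N.index % 5 = 1 := by
    have hmult : Nat.card pF = 5 ^ (Nat.card Suz).factorization 5 := by
      rw [card_pF, card_faithful.1]
      have e : (448345497600 : ℕ).factorization 5 = 2 := by
        rw [show (448345497600 : ℕ) = 5 ^ 2 * 17933819904 by norm_num,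
          Nat.factorization_mul (by norm_num) (by norm_num), Nat.factorization_pow,
          Finsupp.add_apply, Finsupp.smul_apply, Nat.Prime.factorization_self (by norm_num),
          Nat.factorization_eq_zero_of_not_dvd (by norm_num)]
        rfl
      rw [e]; norm_num
    have h := card_sylow_modEq_one 5 Suz
    rw [(Sylow.ofCard pF hmult).card_eq_index_normalizer,
      show ((Sylow.ofCard pF hmult : Sylow 5 Suz) : Set Suz) = (pF : Set Suz) from rfl] at h
    exact h
  have hall := Subgroup.index_mul_card N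
  rw [card_faithful.1] at hall
  rw [hcN]
  refine arith_five hC' hidx ?_ ?_ (Nat.pos_of_ne_zero Subgroup.index_ne_zero_of_finite)
  · rw [← hcN]
    exact (show Nat.Coprime 25 24 by norm_num).mul_dvd_of_dvd_of_dvd d25 d24
  · rw [← hcN, ← hall, Nat.mul_div_cancel _ Nat.card_pos, hn5]

theorem five_quot : Nonempty (↥(Subgroup.normalizer (pF : Set Suz)) ⧸
    pF.subgroupOf (Subgroup.normalizer (pF : Set Suz)) ≃* Multiplicative (ZMod 4) × Equiv.Perm (Fin 3)) := by
  classical
  set N := Subgroup.normalizer (pF : Set Suz) with hN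
  set M := pF.subgroupOf N with hM
  haveI : M.Normal := Subgroup.normal_in_normalizer
  let f : Multiplicative (ZMod 4) × Equiv.Perm (Fin 3) →* N ⧸ M :=
    (QuotientGroup.mk' M).comp (complHom.codRestrict N compl_norm)
  have hf : Function.Injective f := by
    rw [← MonoidHom.ker_eq_bot_iff, eq_bot_iff]
    intro t ht
    have ht' : complHom t ∈ pF := by
      have : ((complHom.codRestrict N compl_norm t : ↥N) : ↥N ⧸ M) = 1 := MonoidHom.mem_ker.mp ht
      exact Subgroup.mem_subgroupOf.mp ((QuotientGroup.eq_one_iff (N := M) _).mp this)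
    have h25 : complHom t ^ 25 = 1 := by
      have := pow_card_eq_one' (x := (⟨_, ht'⟩ : pF))
      rw [card_pF] at this
      exact congrArg Subtype.val this
    have h24 : complHom t ^ 24 = 1 := by
      have : t ^ 24 = 1 := by
        have h := pow_card_eq_one' (x := t)
        rwa [show Nat.card (Multiplicative (ZMod 4) × Equiv.Perm (Fin 3)) = 24 by
          rw [Nat.card_prod, Nat.card_perm]; simp [Nat.factorial]] at h
      rw [← map_pow, this, map_one]
    have h1 : complHom t = 1 := by
      have h := pow_succ (complHom t) 24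
      rwa [h25, h24, one_mul, eq_comm] at h
    exact Subgroup.mem_bot.mpr (complHom_inj (h1.trans (map_one complHom).symm))
  have hcard : Nat.card (N ⧸ M) = 24 := by
    have h := Subgroup.card_eq_card_quotient_mul_card_subgroup M
    have h25 : Nat.card M = 25 := (Nat.card_congr (Subgroup.subgroupOfEquivOfLe
      (show pF ≤ N from Subgroup.le_normalizer)).toEquiv).trans card_pF
    have hN600 : Nat.card N = 600 := five_norm_std
    rw [hN600, h25] at h
    omega
  haveI := Fintype.ofFinite (↥N ⧸ M)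
  exact ⟨(MulEquiv.ofBijective f ((Fintype.bijective_iff_injective_and_card _).mpr ⟨hf, by
    rw [← Nat.card_eq_fintype_card, ← Nat.card_eq_fintype_card, hcard, Nat.card_prod, Nat.card_perm]
    simp [Nat.factorial]⟩)).symm⟩

theorem five_classes : ∃ A B : Subgroup Suz, Nat.card A = 5 ∧ Nat.card B = 5 ∧
    (∀ g : Suz, A.map (MulAut.conj g).toMonoidHom ≠ B) ∧
    ∀ C : Subgroup Suz, Nat.card C = 5 → ∃ g : Suz, C.map (MulAut.conj g).toMonoidHom = A ∨
      C.map (MulAut.conj g).toMonoidHom = B := by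
  classical
  haveI : Fact (Nat.Prime 5) := ⟨by norm_num⟩
  have m10 : ((1, 0) : ℕ × ℕ) ∈ exps := by decide
  have m01 : ((0, 1) : ℕ × ℕ) ∈ exps := by decide
  have ov : orderOf vF = 5 := by rw [← eEl_ten.1]; exact order_five m10 (by decide)
  have ow : orderOf wF = 5 := by rw [← eEl_ten.2]; exact order_five m01 (by decide)
  refine ⟨Subgroup.zpowers vF, Subgroup.zpowers wF, by rw [Nat.card_zpowers, ov], by rw [Nat.card_zpowers, ow],
    fun g h => ?_, fun C hC => ?_⟩
  · have hm : g * vF * g⁻¹ ∈ Subgroup.zpowers wF := h ▸ ⟨vF, Subgroup.mem_zpowers _, rfl⟩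
    obtain ⟨k, hk⟩ := mem_powers_iff_mem_zpowers.mpr hm
    replace hk : wF ^ k = g * vF * g⁻¹ := hk
    have h2 : nfixR (wF ^ k) ≤ 2 := by
      rw [hk, nfixR_conj, ← eEl_ten.1]
      exact (two_iff m10).mpr (by decide)
    have h12 : fixW.length ≤ nfixR (wF ^ k) := fix_list (by decide) (fun x hx => by
      have : (fixW.all fun x => Nat.blt x certA.N) = true := by decide +kernel
      simp only [List.all_eq_true, Nat.blt_eq] at this
      exact this x hx) fun x hx hxm => by
        have hf := five_fix.2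
        simp only [Bool.and_eq_true, List.all_eq_true] at hf
        have hx1 : rho wF ⟨x, hx⟩ = ⟨x, hx⟩ :=
          Fin.ext ((run_el word_lt.2.1 _).trans (Nat.eq_of_beq_eq_true (hf.2 x hxm)))
        rw [map_pow, Equiv.Perm.coe_pow]
        exact Function.IsFixedPt.iterate hx1 k
    simp [fixW] at h12
    omega
  · obtain ⟨R, hR⟩ := (IsPGroup.of_card (n := 1) (by rw [hC, pow_one]) : IsPGroup 5 C).exists_le_sylow
    have hmult : Nat.card pF = 5 ^ (Nat.card Suz).factorization 5 := by
      rw [card_pF, card_faithful.1]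
      have e : (448345497600 : ℕ).factorization 5 = 2 := by
        rw [show (448345497600 : ℕ) = 5 ^ 2 * 17933819904 by norm_num,
          Nat.factorization_mul (by norm_num) (by norm_num), Nat.factorization_pow,
          Finsupp.add_apply, Finsupp.smul_apply, Nat.Prime.factorization_self (by norm_num),
          Nat.factorization_eq_zero_of_not_dvd (by norm_num)]
        rfl
      rw [e]; norm_num
    obtain ⟨g, hg⟩ := MulAction.exists_smul_eq Suz R (Sylow.ofCard pF hmult)
    obtain ⟨s, hs⟩ := exists_prime_orderOf_dvd_card' (G := C) 5 (by rw [hC])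
    rw [← Subgroup.orderOf_coe] at hs
    have hsC : Subgroup.zpowers (s : Suz) = C :=
      Subgroup.eq_of_le_of_card_ge (Subgroup.zpowers_le.mpr s.2) (by rw [Nat.card_zpowers, hs, hC])
    have hm : g * (s : Suz) * g⁻¹ ∈ pF := by
      have h1 : g * (s : Suz) * g⁻¹ ∈ (g • R : Sylow 5 Suz).toSubgroup := by
        rw [Sylow.coe_subgroup_smul, Subgroup.mem_pointwise_smul_iff_inv_smul_mem]
        simpa [mul_assoc] using hR s.2
      rw [hg, Sylow.coe_ofCard] at h1
      exact h1
    obtain ⟨p, hp, hpe⟩ := mem_pF.mp hm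
    have h0 : p ≠ (0, 0) := fun e => by
      rw [e, show eEl (0, 0) = 1 by simp [eEl]] at hpe
      rw [conj_eq_one_iff.mp hpe, orderOf_one] at hs
      norm_num at hs
    have hl := List.all_eq_true.mp lines_cover p hp
    simp only [Bool.or_eq_true, beq_iff_eq, h0, false_or, List.any_eq_true, List.mem_range] at hl
    obtain ⟨l, hlm, k, -, hk⟩ := hl
    have hc := List.all_eq_true.mp line_conj l hlm
    have hu : (if l.2.2.1 == 0 then vFive else wFive).all (fun g => Nat.blt g 7) = true := by
      split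
      exacts [word_lt.1, word_lt.2.1]
    have e := el_eq (all_app (word_lt.2.2.2.2.2 l hlm) (eWord_lt _)) (all_app (rep_lt hu _) (word_lt.2.2.2.2.2 l hlm)) hc
    rw [el_app, el_app, el_eWord, el_rep] at e
    set c := el l.2.1
    set T := if l.2.2.1 == 0 then vFive else wFive with hT
    have hcl : c * eEl l.1 * c⁻¹ = el T ^ l.2.2.2 := by rw [e, mul_inv_cancel_right]
    have hkl : eEl p = eEl l.1 ^ k := by
      rw [← hk, ← eEl_mod, eEl, eEl, (pair_facts.2.2.pow_pow _ _).mul_pow, ← pow_mul, ← pow_mul, mul_comm l.1.1, mul_comm l.1.2]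
    have hmem : (c * g) * (s : Suz) * (c * g)⁻¹ ∈ Subgroup.zpowers (el T) := by
      rw [show c * g * (s : Suz) * (c * g)⁻¹ = c * (g * (s : Suz) * g⁻¹) * c⁻¹ by group, hpe, hkl, ← conj_pow, hcl,
        ← pow_mul]
      exact pow_mem (Subgroup.mem_zpowers _) _
    refine ⟨c * g, ?_⟩
    have hoT : orderOf (el T) = 5 := by rw [hT]; split; exacts [ov, ow]
    have heq : C.map (MulAut.conj (c * g)).toMonoidHom = Subgroup.zpowers (el T) := by
      refine Subgroup.eq_of_le_of_card_ge ?_ (by
        rw [Subgroup.card_map_of_injective (MulAut.conj (c * g)).injective, hC, Nat.card_zpowers, hoT])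
      rw [← hsC, MonoidHom.map_zpowers]
      exact Subgroup.zpowers_le.mpr hmem
    rw [hT] at heq
    split at heq
    exacts [Or.inl heq, Or.inr heq]

end CfsgLib.SuzSyl
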