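import Cfsg.Agent.Lib.SuzPres.Out
import Cfsg.Agent.Lib.SuzSyl.Checks

/-!
The centraliser and the normaliser of a Sylow subgroup of order seven.
-/

set_option autoImplicit false
set_option maxRecDepth 100000
set_option maxHeartbeats 1000000
set_option linter.style.haveILetI false

namespace CfsgLib.SuzSyl

open CfsgLib.CosetEnum CfsgLib.SuzPres Cfsg.Spor

/-- the element of a word -/
noncomputable abbrev el (u : List ℕ) : Suz := prodW gen u

theorem el_app (u w : List ℕ) : el (u ++ w) = el u * el w := prodW_append _ _ _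

theorem el_eq {u w : List ℕ} (hu : u.all (fun g => Nat.blt g 7) = true) (hw : w.all (fun g => Nat.blt g 7) = true)
    (h : sameA u w = true) : el u = el w := eq_same (lt_seven hu) (lt_seven hw) h

theorem all_app {u w : List ℕ} (hu : u.all (fun g => Nat.blt g 7) = true) (hw : w.all (fun g => Nat.blt g 7) = true) :
    (u ++ w).all (fun g => Nat.blt g 7) = true := by rw [List.all_append, hu, hw]; rfl

theorem apart_spec {α : Type*} (f : α → List ℕ) : ∀ {l : List α}, apart (l.map f) = true →
    l.Pairwise fun a b => f a ≠ f b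
  | [], _ => List.Pairwise.nil
  | a :: l, h => by
    rw [List.map_cons, apart, Bool.and_eq_true, List.all_eq_true] at h
    exact List.pairwise_cons.mpr
      ⟨fun b hb => by simpa using h.1 _ (List.mem_map_of_mem hb), apart_spec f h.2⟩

theorem run_el {u : List ℕ} (hu : u.all (fun g => Nat.blt g 7) = true) (x : Fin certA.N) :
    (rho (el u) x : ℕ) = certA.run x (certA.revInv u) := setupA.rho_prodW (lt_seven hu) x

theorem fix_pow {g k : Suz} (h : Commute g k) {x : Fin certA.N} (hx : rho g x = x) :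
    rho g (rho k x) = rho k x := by
  rw [← Equiv.Perm.mul_apply, ← map_mul, h.eq, map_mul, Equiv.Perm.mul_apply, hx]

theorem vA_lt : vWordA.all (fun g => Nat.blt g 7) = true := List.all_eq_true.mp words_ok vWordA (by simp)

/-- the element of order seven -/
noncomputable abbrev vS : Suz := el vWordA

theorem card_zS : Nat.card (Subgroup.zpowers vS) = 7 := by rw [Nat.card_zpowers]; exact v_order

theorem arith_seven {c n : ℕ} (hc : c = 84 ∨ c = 168) (hn : n = 2 ∨ n = 4 ∨ n = 6)
    (hd : n * c ∣ 448345497600) (hm : 448345497600 / (n * c) % 7 = 1) : n * c = 504 ∧ c = 84 := by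
  rcases hc with rfl | rfl <;> rcases hn with rfl | rfl | rfl
  all_goals first
    | (norm_num at hd; done)
    | (norm_num at hm; done)
    | norm_num

theorem seven_std :
    Nonempty (↥(Subgroup.centralizer ((Subgroup.zpowers vS : Subgroup Suz) : Set Suz)) ≃*
      Multiplicative (ZMod 7) × alternatingGroup (Fin 4)) ∧
    Nat.card ↥(Subgroup.normalizer ((Subgroup.zpowers vS : Subgroup Suz) : Set Suz)) = 504 := by
  classical
  set Z := Subgroup.zpowers vS with hZ
  set C := Subgroup.centralizer (Z : Set Suz) with hC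
  have memC : ∀ g, g ∈ C ↔ Commute g vS := by
    intro g
    rw [hC, hZ, Subgroup.zpowers_eq_closure, Subgroup.centralizer_closure, Subgroup.mem_centralizer_singleton_iff]
    rfl
  have hZC : Z ≤ C := fun g hg => by
    obtain ⟨k, rfl⟩ := Subgroup.mem_zpowers_iff.mp hg
    exact (memC _).mpr ((Commute.refl vS).zpow_left k)
  -- the four fixed cosets
  have hp := point_facts
  simp only [Bool.and_eq_true] at hp
  obtain ⟨⟨⟨⟨⟨⟨⟨⟨⟨⟨-, -⟩, -⟩, -⟩, -⟩, -⟩, -⟩, v0⟩, v1⟩, v2⟩, v3⟩ := hp
  let Fix := {y : Fin certA.N // rho vS y = y}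
  let q : Fin 4 → Fix := ![⟨setupA.base, im v_lt _ _ v0⟩, ⟨fOne, im v_lt _ _ v1⟩, ⟨fTwo, im v_lt _ _ v2⟩,
    ⟨fThree, im v_lt _ _ v3⟩]
  have qval : ∀ j : Fin 4, ((q j).1 : ℕ) = fix4.getD j 0 := by
    intro j; fin_cases j <;> rfl
  have hq : Function.Bijective q := by
    constructor
    · intro j k h
      have := congrArg (fun t : Fix => (t.1 : ℕ)) h
      simp only [qval] at this
      fin_cases j <;> fin_cases k <;> first | rfl | simp [fix4, qOne, qTwo, qThree] at this
    · rintro ⟨y, hy⟩
      have h := Cert.allPts_spec v_four (y : ℕ) y.2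
      rw [← setupA.rho_prodW v_lt, hy, show Nat.beq (y : ℕ) y = true by simp] at h
      simp only [Bool.not_true, Bool.false_or, Bool.or_eq_true] at h
      rcases h with ((h | h) | h) | h
      exacts [⟨0, Subtype.ext (Fin.ext (Nat.eq_of_beq_eq_true h).symm)⟩,
        ⟨1, Subtype.ext (Fin.ext (Nat.eq_of_beq_eq_true h).symm)⟩,
        ⟨2, Subtype.ext (Fin.ext (Nat.eq_of_beq_eq_true h).symm)⟩,
        ⟨3, Subtype.ext (Fin.ext (Nat.eq_of_beq_eq_true h).symm)⟩]
  let e4 := Equiv.ofBijective q hq
  have hperm : ∀ c : C, ∀ y, (rho vS (rho (c : Suz) y) = rho (c : Suz) y ↔ rho vS y = y) := by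
    intro c y
    refine ⟨fun h => ?_, fix_pow ((memC _).mp c.2).symm⟩
    have := fix_pow ((memC _).mp c.2).symm.inv_right h
    rwa [show rho (c : Suz)⁻¹ (rho (c : Suz) y) = y by
      rw [← Equiv.Perm.mul_apply, ← map_mul, inv_mul_cancel, map_one, Equiv.Perm.one_apply]] at this
  let ψ : ↥C →* Equiv.Perm (Fin 4) :=
    { toFun := fun c => Equiv.permCongrHom e4.symm ((rho (c : Suz)).subtypePerm (hperm c))
      map_one' := by
        rw [← map_one (Equiv.permCongrHom e4.symm)]
        congr 1
        ext y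
        simp
      map_mul' := fun c c' => by
        rw [← map_mul (Equiv.permCongrHom e4.symm)]
        congr 1
        ext y
        simp }
  have ψ_apply : ∀ (c : C) (j : Fin 4), (q (ψ c j)).1 = rho (c : Suz) (q j).1 := by
    intro c j
    show (e4 (e4.symm ((rho (c : Suz)).subtypePerm (hperm c) (e4 j)))).1 = _
    rw [e4.apply_symm_apply]
    rfl
  -- the kernel
  have hker : ψ.ker = Z.subgroupOf C := by
    refine le_antisymm (fun c hc => ?_) (fun c hc => ?_)
    · have hfix : ∀ j, rho (c : Suz) (q j).1 = (q j).1 := fun j => by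
        rw [← ψ_apply, MonoidHom.mem_ker.mp hc, Equiv.Perm.one_apply]
      refine Subgroup.mem_subgroupOf.mpr (setupA.fix_list_cases repWordsA maskA v_lt
        (F := [setupA.base, fOne, fTwo, fThree]) v_first chain_ok SuzPres.hsize v_search ?_ ((memC _).mp c.2) ?_)
      · intro z hz
        simp only [List.mem_cons, List.not_mem_nil, or_false] at hz
        rcases hz with rfl | rfl | rfl | rfl
        exacts [(q 0).2, (q 1).2, (q 2).2, (q 3).2]
      · intro z hz
        simp only [List.mem_cons, List.not_mem_nil, or_false] at hz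
        rcases hz with rfl | rfl | rfl | rfl
        exacts [hfix 0, hfix 1, hfix 2, hfix 3]
    · obtain ⟨k, hk⟩ := Subgroup.mem_zpowers_iff.mp (Subgroup.mem_subgroupOf.mp hc)
      refine MonoidHom.mem_ker.mpr (Equiv.ext fun j => e4.injective (Subtype.ext ?_))
      show (q (ψ c j)).1 = _
      rw [ψ_apply, ← hk, map_zpow, Equiv.Perm.one_apply]
      exact Equiv.Perm.zpow_apply_eq_self_of_apply_eq_self (q j).2 k
  have hkc : Nat.card ψ.ker = 7 := by
    rw [hker, Nat.card_congr (Subgroup.subgroupOfEquivOfLe hZC).toEquiv, hZ, card_zS]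
  -- the twelve words
  have hw : ∀ u ∈ sevenWords, u.all (fun g => Nat.blt g 7) = true ∧ el u ∈ C := by
    intro u hu
    have h := List.all_eq_true.mp seven_comm u hu
    rw [Bool.and_eq_true] at h
    refine ⟨h.1, (memC _).mpr ?_⟩
    have e := el_eq (all_app h.1 vA_lt) (all_app vA_lt h.1) h.2
    rwa [el_app, el_app] at e
  have h12 : 12 ≤ Nat.card ψ.range := by
    let f : Fin sevenWords.length → ψ.range := fun j =>
      ⟨ψ ⟨el sevenWords[j], (hw _ (List.getElem_mem j.2)).2⟩, ⟨_, rfl⟩⟩
    have hp := apart_spec _ seven_apart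
    have hf : Function.Injective f := by
      intro j k h
      by_contra hne
      have himg : imgs fix4 sevenWords[j] = imgs fix4 sevenWords[k] := by
        refine List.map_congr_left fun x hx => ?_
        obtain ⟨m, hm, rfl⟩ := List.getElem_of_mem hx
        have hm4 : m < 4 := hm
        have hqm : ((q ⟨m, hm4⟩).1 : ℕ) = fix4[m] := by
          rw [qval]; exact List.getD_eq_getElem _ _ hm
        have e := congrArg (fun t : Equiv.Perm (Fin 4) => ((q (t ⟨m, hm4⟩)).1 : ℕ)) (congrArg Subtype.val h)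
        simp only [f, ψ_apply, Fin.getElem_fin] at e ⊢
        rw [run_el (hw _ (List.getElem_mem j.2)).1, run_el (hw _ (List.getElem_mem k.2)).1, hqm] at e
        exact e
      rcases lt_or_gt_of_ne hne with hlt | hlt
      · exact List.pairwise_iff_getElem.mp hp j k j.2 k.2 hlt himg
      · exact List.pairwise_iff_getElem.mp hp k j k.2 j.2 hlt himg.symm
    have h := Nat.card_le_card_of_injective f hf
    rwa [Nat.card_fin, show sevenWords.length = 12 from rfl] at h
  have hr24 : Nat.card ψ.range ∣ 24 := by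
    refine (Subgroup.card_subgroup_dvd_card ψ.range).trans ?_
    rw [Nat.card_perm, Nat.card_fin]; rfl
  have hCk : Nat.card C = 7 * Nat.card ψ.range := by
    rw [← hkc, ← Nat.card_congr (QuotientGroup.quotientKerEquivRange ψ).toEquiv, mul_comm]
    exact Subgroup.card_eq_card_quotient_mul_card_subgroup _
  have hC' : Nat.card C = 84 ∨ Nat.card C = 168 := by
    have := Nat.le_of_dvd (by norm_num) hr24
    rw [hCk]
    interval_cases Nat.card ψ.range <;> omega
  -- the normaliser
  set N := Subgroup.normalizer (Z : Set Suz) with hN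
  have hCN : C ≤ N := by
    intro g hg
    have key : ∀ y ∈ Z, g * y * g⁻¹ = y := fun y hy => by
      obtain ⟨m, rfl⟩ := Subgroup.mem_zpowers_iff.mp hy
      rw [(((memC g).mp hg).zpow_right m).eq, mul_inv_cancel_right]
    refine Subgroup.mem_normalizer_iff.mpr fun y => ⟨fun h => by rw [key y h]; exact h, fun h => ?_⟩
    have e : g * y * g⁻¹ = y := mul_left_cancel (a := g) (mul_right_cancel (b := g⁻¹) (key _ h))
    rwa [e] at h
  haveI hCn : (C.subgroupOf N).Normal := ⟨fun c hc n => by
    rw [Subgroup.mem_subgroupOf, memC] at hc ⊢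
    obtain ⟨m, hm⟩ := Subgroup.mem_zpowers_iff.mp
      ((Subgroup.mem_normalizer_iff'.mp n.2 ((n : Suz)⁻¹ * vS)).mpr
        (by rw [mul_inv_cancel_left]; exact Subgroup.mem_zpowers vS) : (n : Suz)⁻¹ * vS * n ∈ Z)
    have h := (hc.zpow_right m).map (MulAut.conj (n : Suz))
    rwa [hm, MulAut.conj_apply, MulAut.conj_apply, show (n : Suz) * ((n : Suz)⁻¹ * vS * n) * (n : Suz)⁻¹ = vS by group,
      show (n : Suz) * (c : Suz) * (n : Suz)⁻¹ = ((n * c * n⁻¹ : ↥N) : Suz) from rfl] at h⟩
  have hidx : (C.subgroupOf N).index ≤ 6 := by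
    haveI := Fintype.ofFinite Z
    let f : N ⧸ C.subgroupOf N → {y : Z // y ≠ 1} := Quotient.lift
      (fun n => ⟨⟨(n : Suz) * vS * (n : Suz)⁻¹,
          ((Subgroup.mem_normalizer_iff.mp n.2) vS).mp (Subgroup.mem_zpowers vS)⟩, fun h => by
        have e : (n : Suz) * vS * (n : Suz)⁻¹ = 1 := congrArg Subtype.val h
        have := v_order
        rw [show prodW gen vWordA = 1 from conj_eq_one_iff.mp e, orderOf_one] at this
        norm_num at this⟩)
      (fun n m h => by
        have hm : (n : Suz)⁻¹ * m ∈ C := (QuotientGroup.leftRel_apply.mp h : n⁻¹ * m ∈ C.subgroupOf N)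
        refine Subtype.ext (Subtype.ext ?_)
        show (n : Suz) * vS * (n : Suz)⁻¹ = m * vS * (m : Suz)⁻¹
        have e : (n : Suz)⁻¹ * m * vS = vS * ((n : Suz)⁻¹ * m) := (memC _).mp hm
        calc (n : Suz) * vS * (n : Suz)⁻¹ = n * (vS * ((n : Suz)⁻¹ * m)) * (m : Suz)⁻¹ := by group
          _ = n * ((n : Suz)⁻¹ * m * vS) * (m : Suz)⁻¹ := by rw [e]
          _ = _ := by group)
    have hf : Function.Injective f := by
      intro a b h
      induction a using QuotientGroup.induction_on with
      | _ n =>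
        induction b using QuotientGroup.induction_on with
        | _ m =>
          refine QuotientGroup.eq.mpr ((memC _).mpr ?_)
          have e : (n : Suz) * vS * (n : Suz)⁻¹ = m * vS * (m : Suz)⁻¹ := congrArg (fun x => ((x.1 : Z) : Suz)) h
          show (n : Suz)⁻¹ * m * vS = vS * ((n : Suz)⁻¹ * m)
          calc (n : Suz)⁻¹ * m * vS = (n : Suz)⁻¹ * (m * vS * (m : Suz)⁻¹) * m := by group
            _ = (n : Suz)⁻¹ * (n * vS * (n : Suz)⁻¹) * m := by rw [e]
            _ = _ := by group
    calc (C.subgroupOf N).index = Nat.card (N ⧸ C.subgroupOf N) := rfl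
      _ ≤ Nat.card {y : Z // y ≠ 1} := Nat.card_le_card_of_injective f hf
      _ = 6 := by
        rw [Nat.card_eq_fintype_card, Fintype.card_subtype_compl, Fintype.card_subtype_eq,
          ← Nat.card_eq_fintype_card, hZ, card_zS]
  have heven : 2 ∣ (C.subgroupOf N).index := by
    have h := seven_inv
    rw [Bool.and_eq_true] at h
    have e := el_eq (all_app vA_lt (all_app h.1 vA_lt)) h.1 h.2
    rw [el_app, el_app] at e
    set g := el invSeven
    have hgv : g * vS * g⁻¹ = vS⁻¹ := by
      rw [show g * vS * g⁻¹ = vS⁻¹ * (vS * (g * vS)) * g⁻¹ by group, e, mul_inv_cancel_right]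
    have key : ∀ y ∈ Z, g * y * g⁻¹ = y⁻¹ := fun y hy => by
      obtain ⟨m, rfl⟩ := Subgroup.mem_zpowers_iff.mp hy
      rw [← conj_zpow, hgv, inv_zpow]
    have hback : ∀ y, g * y * g⁻¹ ∈ Z → y = (g * y * g⁻¹)⁻¹ := fun y hy => by
      have h2 := key _ (inv_mem hy)
      rw [inv_inv] at h2
      exact (mul_left_cancel (mul_right_cancel h2)).symm
    have hgN : g ∈ N := Subgroup.mem_normalizer_iff.mpr fun y =>
      ⟨fun hy => by rw [key y hy]; exact inv_mem hy, fun hy => (hback y hy).symm ▸ inv_mem hy⟩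
    have hne : ((⟨g, hgN⟩ : ↥N) : ↥N ⧸ C.subgroupOf N) ≠ 1 := fun h' => by
      have hc0 : (⟨g, hgN⟩ : ↥N) ∈ C.subgroupOf N := (QuotientGroup.eq_one_iff _).mp h'
      have hc : Commute g vS := (memC _).mp hc0
      rw [hc.eq, mul_inv_cancel_right] at hgv
      have h2 : orderOf vS ∣ 2 := orderOf_dvd_of_pow_eq_one (by rw [pow_two, eq_inv_iff_mul_eq_one.mp hgv])
      rw [show orderOf vS = 7 from v_order] at h2
      norm_num at h2
    have hsq : ((⟨g, hgN⟩ : ↥N) : ↥N ⧸ C.subgroupOf N) ^ 2 = 1 := by
      rw [pow_two, ← QuotientGroup.mk_mul]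
      refine (QuotientGroup.eq_one_iff _).mpr (Subgroup.mem_subgroupOf.mpr ((memC _).mpr ?_))
      show g * g * vS = vS * (g * g)
      calc g * g * vS = g * (g * vS * g⁻¹) * g := by group
        _ = g * vS⁻¹ * g⁻¹ * (g * g) := by rw [hgv]; group
        _ = (g * vS * g⁻¹)⁻¹ * (g * g) := by group
        _ = vS * (g * g) := by rw [hgv, inv_inv]
    haveI : Fact (Nat.Prime 2) := ⟨Nat.prime_two⟩
    rw [Subgroup.index, ← orderOf_eq_prime hsq hne]
    exact orderOf_dvd_natCard _
  have hcN : Nat.card N = (C.subgroupOf N).index * Nat.card C := by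
    rw [← Nat.card_congr (Subgroup.subgroupOfEquivOfLe hCN).toEquiv, Subgroup.index_mul_card]
  haveI : Fact (Nat.Prime 7) := ⟨by norm_num⟩
  have hmult : Nat.card Z = 7 ^ (Nat.card Suz).factorization 7 := by
    rw [hZ, card_zS, card_faithful.1]
    have e : (448345497600 : ℕ).factorization 7 = 1 := by
      rw [show (448345497600 : ℕ) = 7 ^ 1 * 64049356800 by norm_num,
        Nat.factorization_mul (by norm_num) (by norm_num), Nat.factorization_pow,
        Finsupp.add_apply, Finsupp.smul_apply, Nat.Prime.factorization_self (by norm_num),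
        Nat.factorization_eq_zero_of_not_dvd (by norm_num)]
      rfl
    rw [e, pow_one]
  have hn7 : N.index % 7 = 1 := by
    have h := card_sylow_modEq_one 7 Suz
    rw [(Sylow.ofCard Z hmult).card_eq_index_normalizer,
      show ((Sylow.ofCard Z hmult : Sylow 7 Suz) : Set Suz) = (Z : Set Suz) from rfl] at h
    exact h
  have hall := Subgroup.index_mul_card N
  rw [card_faithful.1] at hall
  have hres : Nat.card N = 504 ∧ Nat.card C = 84 := by
    rw [hcN]
    refine arith_seven hC' ?_ ?_ ?_
    · have hpos : 0 < (C.subgroupOf N).index := Nat.pos_of_ne_zero Subgroup.index_ne_zero_of_finite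
      omega
    · exact hcN ▸ ⟨N.index, by rw [← hall, mul_comm]⟩
    · rw [← hcN, ← hall, Nat.mul_div_cancel _ Nat.card_pos, hn7]
  refine ⟨?_, hres.1⟩
  -- the structure of the centraliser
  have hr12 : Nat.card ψ.range = 12 := by rw [hres.2] at hCk; omega
  have hrange : ψ.range = alternatingGroup (Fin 4) := by
    refine Equiv.Perm.eq_alternatingGroup_of_index_eq_two ?_
    have := ψ.range.index_mul_card
    rw [hr12, Nat.card_perm, Nat.card_fin, show Nat.factorial 4 = 24 from rfl] at this
    omega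
  have hcop : Nat.Coprime (Nat.card ψ.ker) ψ.ker.index := by
    rw [hkc, Subgroup.index_ker, hr12]; norm_num
  obtain ⟨K, hK⟩ := Subgroup.exists_right_complement'_of_coprime hcop
  have hcentral : ∀ k ∈ ψ.ker, ∀ l : ↥C, Commute k l := by
    intro k hk l
    rw [hker] at hk
    obtain ⟨m, hm⟩ := Subgroup.mem_zpowers_iff.mp (Subgroup.mem_subgroupOf.mp hk)
    refine Subtype.ext ?_
    show (k : Suz) * l = l * k
    rw [← hm]
    exact (((memC _).mp l.2).zpow_right m).symm.eq
  let μ : ↥ψ.ker × ↥K →* ↥C := MonoidHom.noncommCoprod ψ.ker.subtype K.subtype fun k l => hcentral k k.2 l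
  have hμ : Function.Bijective μ := hK
  have hKinj : Function.Injective (ψ.comp K.subtype) := by
    rw [← MonoidHom.ker_eq_bot_iff, eq_bot_iff]
    intro l hl
    have h1 : (l : ↥C) ∈ ψ.ker ⊓ K := Subgroup.mem_inf.mpr ⟨MonoidHom.mem_ker.mpr hl, l.2⟩
    rw [hK.disjoint.eq_bot] at h1
    exact Subgroup.mem_bot.mpr (Subtype.ext (Subgroup.mem_bot.mp h1))
  have hKr : (ψ.comp K.subtype).range = alternatingGroup (Fin 4) := by
    refine Subgroup.eq_of_le_of_card_ge ?_ (le_of_eq ?_)
    · rw [← hrange]
      rintro _ ⟨l, rfl⟩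
      exact ⟨l, rfl⟩
    · rw [← hrange, hr12, ← Nat.card_congr (MonoidHom.ofInjective hKinj).toEquiv]
      have := hK.card_mul_card
      rw [hkc, hres.2] at this
      omega
  have hcyc : IsCyclic ↥ψ.ker := isCyclic_of_prime_card hkc
  exact ⟨(MulEquiv.ofBijective μ hμ).symm.trans (MulEquiv.prodCongr
    ((zmodCyclicMulEquiv hcyc).symm.trans (AddEquiv.toMultiplicative (ZMod.ringEquivCongr hkc).toAddEquiv))
    ((MonoidHom.ofInjective hKinj).trans (MulEquiv.subgroupCongr hKr)))⟩

end CfsgLib.SuzSyl
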