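import Mathlib

/-!
Moving centralisers, normalisers and classes of subgroups along an isomorphism.
-/

set_option autoImplicit false

namespace CfsgLib.SuzSyl

variable {G H : Type*} [Group G] [Group H]

/-- An isomorphism taking a Sylow subgroup onto a given one. -/
theorem exists_move [Finite H] {p : ℕ} [Fact p.Prime] (φ : G ≃* H) (P : Sylow p G) {Q0 : Subgroup H} {k : ℕ}
    (hQ : Nat.card Q0 = p ^ k) (hd : p ^ k ∣ Nat.card H) (hnd : ¬ p ^ (k + 1) ∣ Nat.card H) :
    ∃ χ : G ≃* H, (P : Subgroup G).map χ.toMonoidHom = Q0 := by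
  haveI : Finite G := Finite.of_equiv H φ.symm.toEquiv
  have hk : (Nat.card H).factorization p = k := by
    have hp : Nat.Prime p := Fact.out
    refine le_antisymm (Nat.not_lt.mp fun h => hnd ((pow_dvd_pow p h).trans (Nat.ordProj_dvd _ _))) ?_
    exact (hp.pow_dvd_iff_le_factorization Nat.card_pos.ne').mp hd
  let S0 : Sylow p H := Sylow.ofCard Q0 (by rw [hQ, hk])
  let S1 : Sylow p H := Sylow.ofCard ((P : Subgroup G).map φ.toMonoidHom) (by
    rw [Subgroup.card_map_of_injective φ.injective, P.card_eq_multiplicity, Nat.card_congr φ.toEquiv])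
  obtain ⟨c, hc⟩ := MulAction.exists_smul_eq H S1 S0
  refine ⟨φ.trans (MulAut.conj c), ?_⟩
  have h := congrArg (fun S : Sylow p H => (S : Subgroup H)) hc
  simp only [S0, S1, Sylow.coe_subgroup_smul, Sylow.coe_ofCard] at h
  rw [← h]
  ext x
  simp [Subgroup.mem_map, Subgroup.mem_pointwise_smul_iff_inv_smul_mem, mul_assoc]
  constructor
  · rintro ⟨y, hy, rfl⟩; exact ⟨y, hy, by group⟩
  · rintro ⟨y, hy, e⟩; exact ⟨y, hy, by rw [e]; group⟩

theorem mem_centralizer_map (χ : G ≃* H) {P : Subgroup G} {Q0 : Subgroup H} (h : P.map χ.toMonoidHom = Q0) (x : G) :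
    χ x ∈ Subgroup.centralizer (Q0 : Set H) ↔ x ∈ Subgroup.centralizer (P : Set G) := by
  subst h
  simp only [Subgroup.mem_centralizer_iff, Subgroup.coe_map, Set.forall_mem_image, MulEquiv.coe_toMonoidHom,
    ← map_mul, χ.injective.eq_iff]

theorem centralizer_equiv (χ : G ≃* H) {P : Subgroup G} {Q0 : Subgroup H} (h : P.map χ.toMonoidHom = Q0) :
    Nonempty (↥(Subgroup.centralizer (P : Set G)) ≃* ↥(Subgroup.centralizer (Q0 : Set H))) := by
  refine ⟨(χ.subgroupMap _).trans (MulEquiv.subgroupCongr ?_)⟩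
  ext y
  obtain ⟨x, rfl⟩ := χ.surjective y
  rw [mem_centralizer_map χ h]
  simp [Subgroup.mem_map]

theorem normalizer_eq (χ : G ≃* H) {P : Subgroup G} {Q0 : Subgroup H} (h : P.map χ.toMonoidHom = Q0) :
    (Subgroup.normalizer (P : Set G)).map χ.toMonoidHom = Subgroup.normalizer (Q0 : Set H) := by
  rw [← h]; exact Subgroup.map_equiv_normalizer_eq P χ

theorem normalizer_equiv (χ : G ≃* H) {P : Subgroup G} {Q0 : Subgroup H} (h : P.map χ.toMonoidHom = Q0) :
    Nonempty (↥(Subgroup.normalizer (P : Set G)) ≃* ↥(Subgroup.normalizer (Q0 : Set H))) :=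
  ⟨(χ.subgroupMap _).trans (MulEquiv.subgroupCongr (normalizer_eq χ h))⟩

theorem quot_equiv (χ : G ≃* H) {P : Subgroup G} {Q0 : Subgroup H} (h : P.map χ.toMonoidHom = Q0) :
    Nonempty (↥(Subgroup.normalizer (P : Set G)) ⧸ P.subgroupOf (Subgroup.normalizer (P : Set G)) ≃*
      ↥(Subgroup.normalizer (Q0 : Set H)) ⧸ Q0.subgroupOf (Subgroup.normalizer (Q0 : Set H))) := by
  refine ⟨QuotientGroup.congr _ _ ((χ.subgroupMap _).trans (MulEquiv.subgroupCongr (normalizer_eq χ h))) ?_⟩
  ext y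
  simp only [Subgroup.mem_map, Subgroup.mem_subgroupOf]
  constructor
  · rintro ⟨x, hx, rfl⟩
    exact h.le ⟨x, hx, rfl⟩
  · intro hy
    obtain ⟨x, hx, e⟩ := h.ge hy
    exact ⟨⟨x, Subgroup.le_normalizer hx⟩, hx, Subtype.ext e⟩

theorem classes_transport (χ : G ≃* H)
    (hH : ∃ A B : Subgroup H, Nat.card A = 5 ∧ Nat.card B = 5 ∧
      (∀ g : H, A.map (MulAut.conj g).toMonoidHom ≠ B) ∧
      ∀ C : Subgroup H, Nat.card C = 5 → ∃ g : H, C.map (MulAut.conj g).toMonoidHom = A ∨
        C.map (MulAut.conj g).toMonoidHom = B) :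
    ∃ A B : Subgroup G, Nat.card A = 5 ∧ Nat.card B = 5 ∧
      (∀ g : G, A.map (MulAut.conj g).toMonoidHom ≠ B) ∧
      ∀ C : Subgroup G, Nat.card C = 5 → ∃ g : G, C.map (MulAut.conj g).toMonoidHom = A ∨
        C.map (MulAut.conj g).toMonoidHom = B := by
  obtain ⟨A, B, hA, hB, hne, hall⟩ := hH
  have key : ∀ (C : Subgroup G) (g : G), (C.map (MulAut.conj g).toMonoidHom).map χ.toMonoidHom =
      (C.map χ.toMonoidHom).map (MulAut.conj (χ g)).toMonoidHom := fun C g => by
    rw [Subgroup.map_map, Subgroup.map_map]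
    congr 1
    ext x
    simp
  have cm : ∀ K : Subgroup G, Nat.card (K.map χ.toMonoidHom) = Nat.card K := fun K =>
    Subgroup.card_map_of_injective χ.injective
  have back : ∀ K : Subgroup H, (K.map χ.symm.toMonoidHom).map χ.toMonoidHom = K := fun K => by
    rw [Subgroup.map_map]
    convert Subgroup.map_id K
    ext x
    simp
  refine ⟨A.map χ.symm.toMonoidHom, B.map χ.symm.toMonoidHom, by rw [← cm, back, hA], by rw [← cm, back, hB],
    fun g e => hne (χ g) ?_, fun C hC => ?_⟩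
  · have := congrArg (fun K => Subgroup.map χ.toMonoidHom K) e
    simp only [key, back] at this
    exact this
  · obtain ⟨g, hg⟩ := hall (C.map χ.toMonoidHom) (by rw [cm, hC])
    refine ⟨χ.symm g, hg.imp (fun e => ?_) (fun e => ?_)⟩ <;>
      (apply Subgroup.map_injective (f := χ.toMonoidHom) χ.injective; show Subgroup.map χ.toMonoidHom _ = Subgroup.map χ.toMonoidHom _;
       rw [key, back, χ.apply_symm_apply]; exact e)

end CfsgLib.SuzSyl
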